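import Cfsg.Agent.Lib.ThompsonD4.SLTwo

/-!
Gauss decompositions up to conjugacy in a group with a torus and two rank one nodes (helper27; after the
argument of helper65 for `G₂(q)`).
-/

set_option autoImplicit false

namespace Cfsg.Agent.Lib.ThompsonD4

open Cfsg.Agent.Lib.Chev
open Cfsg.Agent.Lib.Chev.RankOneData (upper lower wElt sl_ext mul_entry upper_entries lower_entries wElt_entries)
open Cfsg.Agent.Lib.ThompsonG2 (M2 NonScalar exists_conj_entry)
open scoped Matrix MatrixGroups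

variable {G : Type*} [Group G]

/-- A product of two conjugates. -/
def Good (x g : G) : Prop := ∃ u v : G, g = u * x * u⁻¹ * (v * x * v⁻¹)

/-- Conjugate elements. -/
def Cj (g h : G) : Prop := ∃ a : G, h = a * g * a⁻¹

theorem Cj.refl (g : G) : Cj g g := ⟨1, by simp⟩

theorem Cj.symm {g h : G} (e : Cj g h) : Cj h g := by
  obtain ⟨a, rfl⟩ := e
  exact ⟨a⁻¹, by group⟩

theorem Cj.trans {g h l : G} (e : Cj g h) (e' : Cj h l) : Cj g l := by
  obtain ⟨a, rfl⟩ := e
  obtain ⟨b, rfl⟩ := e'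
  exact ⟨b * a, by group⟩

theorem Cj.conj {g h : G} (e : Cj g h) (a : G) : Cj g (a * h * a⁻¹) := e.trans ⟨a, rfl⟩

theorem Good.of_cj {x g h : G} (e : Cj g h) (hh : Good x h) : Good x g := by
  obtain ⟨a, rfl⟩ := e
  obtain ⟨u, v, hh⟩ := hh
  refine ⟨a⁻¹ * u, a⁻¹ * v, ?_⟩
  calc g = a⁻¹ * (a * g * a⁻¹) * a := by group
    _ = _ := by rw [hh]; group

theorem Good.mk {x y z : G} (hy : Cj x y) (hz : Cj x z) : Good x (y * z) := by
  obtain ⟨a, rfl⟩ := hy
  obtain ⟨b, rfl⟩ := hz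
  exact ⟨a, b, rfl⟩

/-- A finite subgroup normalised by an element without fixed points is absorbed into its class. -/
theorem absorb {H : Subgroup G} [Finite ↥H] {c : G} (hc : ∀ h ∈ H, c * h * c⁻¹ ∈ H)
    (hfix : ∀ h ∈ H, c * h * c⁻¹ = h → h = 1) {h : G} (hh : h ∈ H) : Cj c (h * c) ∧ Cj c (c * h) := by
  have hw : ∀ w ∈ H, w * c * w⁻¹ * c⁻¹ ∈ H := fun w hw => by
    have := mul_mem hw (inv_mem (hc w hw))
    rwa [show w * (c * w * c⁻¹)⁻¹ = w * c * w⁻¹ * c⁻¹ by group] at this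
  let f : ↥H → ↥H := fun w => ⟨w.1 * c * w.1⁻¹ * c⁻¹, hw _ w.2⟩
  have hinj : Function.Injective f := by
    intro w1 w2 e
    have e' : w1.1 * c * w1.1⁻¹ * c⁻¹ = w2.1 * c * w2.1⁻¹ * c⁻¹ := congrArg Subtype.val e
    have e2 : w1.1 * c * w1.1⁻¹ = w2.1 * c * w2.1⁻¹ := mul_right_cancel e'
    have e3 : w2.1⁻¹ * w1.1 = 1 := hfix _ (mul_mem (inv_mem w2.2) w1.2) <| by
      calc c * (w2.1⁻¹ * w1.1) * c⁻¹ = w2.1⁻¹ * (w2.1 * c * w2.1⁻¹) * w1.1 * c⁻¹ := by group
        _ = w2.1⁻¹ * (w1.1 * c * w1.1⁻¹) * w1.1 * c⁻¹ := by rw [e2]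
        _ = _ := by group
    exact Subtype.ext (inv_mul_eq_one.1 e3).symm
  have key : ∀ w ∈ H, Cj c (w * c) := fun w hw' => by
    obtain ⟨v, hv⟩ := Finite.surjective_of_injective hinj ⟨w, hw'⟩
    refine ⟨v.1, ?_⟩
    have e : v.1 * c * v.1⁻¹ * c⁻¹ = w := congrArg Subtype.val hv
    rw [← e]; group
  refine ⟨key h hh, ?_⟩
  have := key (c * h * c⁻¹) (hc h hh)
  rwa [show c * h * c⁻¹ * c = c * h by group] at this

variable {A : Type*} [CommGroup A]

/-- A rank one node. -/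
structure Node (T : A →* G) (Um Up : Subgroup G) (k : Type*) [Field k] where
  phi : SL(2, k) →* G
  co : kˣ →* A
  chi : A →* kˣ
  Lp : Subgroup G
  Lm : Subgroup G
  phi_dia : ∀ t, phi (dia t) = T (co t)
  conjT : ∀ a m, T a * phi m * (T a)⁻¹ = phi (sc (chi a) m)
  normP : ∀ m, ∀ u ∈ Lp, phi m * u * (phi m)⁻¹ ∈ Lp
  normM : ∀ m, ∀ v ∈ Lm, phi m * v * (phi m)⁻¹ ∈ Lm
  subP : Lp ≤ Up
  subM : Lm ≤ Um
  memP : ∀ r, phi (upper r) ∈ Up
  memM : ∀ p, phi (lower p) ∈ Um
  splitU : ∀ u ∈ Up, ∃ r, ∃ u' ∈ Lp, u = phi (upper r) * u'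
  splitV : ∀ v ∈ Um, ∃ p, ∃ v' ∈ Lm, v = v' * phi (lower p)

variable (T : A →* G) (Um Up : Subgroup G)

/-- A Gauss decomposition of a conjugate of `g`. -/
def Rep (g v : G) (a : A) (u : G) : Prop := v ∈ Um ∧ u ∈ Up ∧ Cj g (v * T a * u)

variable {T Um Up}
variable {k : Type*} [Field k]

namespace Node

variable (N : Node T Um Up k)

/-- A Gauss decomposition with split node components. -/
def Dec (g v : G) (p : k) (a : A) (r : k) (u : G) : Prop :=
  v ∈ N.Lm ∧ u ∈ N.Lp ∧ Cj g (v * N.phi (lower p) * T a * (N.phi (upper r) * u))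

variable {N}

theorem Dec.toRep {g v : G} {p : k} {a : A} {r : k} {u : G} (h : N.Dec g v p a r u) :
    Rep T Um Up g (v * N.phi (lower p)) a (N.phi (upper r) * u) :=
  ⟨mul_mem (N.subM h.1) (N.memM p), mul_mem (N.memP r) (N.subP h.2.1), h.2.2⟩

variable (N)

theorem exists_dec {g v : G} {a : A} {u : G} (h : Rep T Um Up g v a u) :
    ∃ v' p r u', N.Dec g v' p a r u' := by
  obtain ⟨p, v', hv', rfl⟩ := N.splitV v h.1
  obtain ⟨r, u', hu', rfl⟩ := N.splitU u h.2.1
  exact ⟨v', p, r, u', hv', hu', h.2.2⟩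

/-- The middle is not central in the Levi subgroup. -/
def Active (p : k) (a : A) (r : k) : Prop := p ≠ 0 ∨ r ≠ 0 ∨ N.chi a ≠ 1

theorem swap (a : A) (r : k) : T a * N.phi (upper r) = N.phi (upper ((N.chi a : k) * r)) * T a := by
  rw [← sc_upper, ← N.conjT]; group

theorem swap' (a : A) (r : k) : N.phi (upper r) * T a = T a * N.phi (upper ((((N.chi a)⁻¹ : kˣ) : k) * r)) := by
  rw [N.swap, ← mul_assoc, Units.mul_inv, one_mul]

/-- The middle of a decomposition, as an element of `SL₂`. -/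
def midSL (p : k) (a : A) (r : k) : SL(2, k) := lower p * upper ((N.chi a : k) * r)

theorem mid_eq (p : k) (a : A) (r : k) :
    N.phi (lower p) * T a * N.phi (upper r) = N.phi (N.midSL p a r) * T a := by
  rw [midSL, map_mul, mul_assoc, N.swap, ← mul_assoc]

theorem Dec.mid {g v : G} {p : k} {a : A} {r : k} {u : G} (h : N.Dec g v p a r u) :
    Cj g (v * (N.phi (N.midSL p a r) * T a) * u) := by
  rw [← N.mid_eq]
  convert h.2.2 using 1
  group

/-- Conjugation by the node with a prescribed diagonal entry. -/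
theorem move_at {g v : G} {p : k} {a : A} {r : k} {u : G} (h : N.Dec g v p a r u) (m' : SL(2, k)) {t : kˣ}
    (h00 : (m' * N.midSL p a r * sc (N.chi a) m'⁻¹) 0 0 = (t : k)) :
    let m := m' * N.midSL p a r * sc (N.chi a) m'⁻¹
    N.Dec g (N.phi m' * v * (N.phi m')⁻¹) (m 1 0 / (t : k)) (a * N.co t)
      ((((N.chi a)⁻¹ : kˣ) : k) * (m 0 1 / (t : k))) (N.phi m' * u * (N.phi m')⁻¹) := by
  intro m
  set p' := m 1 0 / (t : k)
  set r' := m 0 1 / (t : k)
  have hmeq : m = lower p' * dia t * upper r' := by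
    have hd := RankOneData.det_eq m
    change m 0 0 = _ at h00
    rw [h00] at hd
    refine sl_ext ?_ ?_ ?_ ?_ <;>
      simp only [mul_entry, lower_entries, upper_entries, dia_entries, h00, p', r', Units.val_inv_eq_inv_val] <;>
      field_simp <;> first | linear_combination hd | ring
  have e3 : N.phi m' * (N.phi (N.midSL p a r) * T a) * (N.phi m')⁻¹ = N.phi m * T a := by
    have e : N.phi (sc (N.chi a) m'⁻¹) = T a * (N.phi m')⁻¹ * (T a)⁻¹ := by rw [← N.conjT, map_inv]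
    simp only [m, map_mul, e]
    group
  have e2 : N.phi m * T a =
      N.phi (lower p') * T (a * N.co t) * N.phi (upper ((((N.chi a)⁻¹ : kˣ) : k) * r')) := by
    rw [hmeq, map_mul, map_mul, N.phi_dia, mul_assoc _ (N.phi (upper r')), N.swap', mul_comm a, map_mul]
    group
  refine ⟨N.normM m' v h.1, N.normP m' u h.2.1, ?_⟩
  have e4 := (Dec.mid N h).conj (N.phi m')
  convert e4 using 1
  calc N.phi m' * v * (N.phi m')⁻¹ * N.phi (lower p') * T (a * N.co t) *
        (N.phi (upper ((((N.chi a)⁻¹ : kˣ) : k) * r')) * (N.phi m' * u * (N.phi m')⁻¹))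
      = N.phi m' * v * (N.phi m')⁻¹ * (N.phi (lower p') * T (a * N.co t) *
        N.phi (upper ((((N.chi a)⁻¹ : kˣ) : k) * r'))) * (N.phi m' * u * (N.phi m')⁻¹) := by group
    _ = N.phi m' * v * (N.phi m')⁻¹ * (N.phi m' * (N.phi (N.midSL p a r) * T a) * (N.phi m')⁻¹) *
        (N.phi m' * u * (N.phi m')⁻¹) := by rw [← e2, e3]
    _ = _ := by group

theorem move {g v : G} {p : k} {a : A} {r : k} {u : G} (h : N.Dec g v p a r u)
    (hact : N.Active p a r) (t : kˣ) : ∃ v' p' r' u', N.Dec g v' p' (a * N.co t) r' u' := by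
  set al := N.chi a with hal
  set M : M2 k := !![(al : k), (al : k) * r; p * (al : k), p * (al : k) * r + 1] with hM
  have hns : NonScalar M := by
    by_cases hp : p = 0
    · by_cases hr : r = 0
      · refine Or.inr (Or.inr ?_)
        have ha : al ≠ 1 := (hact.resolve_left (not_not.2 hp)).resolve_left (not_not.2 hr)
        simpa [hM, hp, Units.val_eq_one] using ha
      · exact Or.inl (by simp [hM, hr])
    · exact Or.inr (Or.inl (by simp [hM, hp]))
  obtain ⟨m', hk⟩ := exists_conj_entry hns ((al : k) * (t : k))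
  refine ⟨_, _, _, _, N.move_at h m' (t := t) ?_⟩
  refine mul_left_cancel₀ al.ne_zero ?_
  rw [← hk]
  have a00 : m'⁻¹ 0 0 = m' 1 1 := by
    show (m'.1.adjugate) 0 0 = _
    simp [Matrix.adjugate_fin_two]
  have a10 : m'⁻¹ 1 0 = -m' 1 0 := by
    show (m'.1.adjugate) 1 0 = _
    simp [Matrix.adjugate_fin_two]
  simp only [midSL, ← hal, mul_entry, sc_entries, lower_entries, upper_entries, hM]
  simp [Matrix.mul_apply, Fin.sum_univ_two, a00, a10, Matrix.adjugate_fin_two]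
  field_simp

/-- The big cell times its left factor is stable under the rank one subgroup. -/
theorem cell_step (hnT : ∀ a, ∀ w ∈ N.Lm, T a * w * (T a)⁻¹ ∈ N.Lm) (m : SL(2, k)) {u w : G} (a : A) {u2 : G}
    (hu : u ∈ Up) (hw : w ∈ Um) (hu2 : u2 ∈ Up) :
    ∃ x ∈ Up, ∃ y ∈ Um, ∃ a' : A, ∃ z ∈ Up, N.phi m * (u * w * T a * u2) = x * y * T a' * z := by
  obtain ⟨r, v, hv, eu⟩ : ∃ r, ∃ v ∈ N.Lp, u = v * N.phi (upper r) := by
    obtain ⟨r, u', hu', e⟩ := N.splitU u hu
    exact ⟨r, N.phi (upper r) * u' * (N.phi (upper r))⁻¹, N.normP _ _ hu', by rw [e]; group⟩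
  obtain ⟨q, w', hw', ew⟩ : ∃ q, ∃ w' ∈ N.Lm, w = N.phi (lower q) * w' := by
    obtain ⟨q, w', hw', e⟩ := N.splitV w hw
    refine ⟨q, (N.phi (lower q))⁻¹ * w' * N.phi (lower q), ?_, by rw [e]; group⟩
    have := N.normM (lower q)⁻¹ _ hw'
    rwa [map_inv, inv_inv] at this
  subst eu ew
  set m2 := m * upper r * lower q with hm2
  obtain ⟨c, hc⟩ : ∃ c : k, (m2 * upper c) 1 1 ≠ 0 := by
    by_cases h0 : m2 1 1 = 0
    · refine ⟨1, ?_⟩
      have hd := RankOneData.det_eq m2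
      simp [mul_entry, upper_entries, h0]
      intro e
      rw [h0, e] at hd
      simp at hd
    · exact ⟨0, by simpa [mul_entry, upper_entries] using h0⟩
  set m3 := m2 * upper c with hm3
  set t : kˣ := (Units.mk0 _ hc)⁻¹ with ht
  set x0 := m3 0 1 / m3 1 1
  set y0 := m3 1 0 * m3 1 1
  have hdec : m3 = upper x0 * lower y0 * dia t := by
    have hd := RankOneData.det_eq m3
    refine sl_ext ?_ ?_ ?_ ?_ <;>
      simp only [x0, y0, mul_entry, lower_entries, upper_entries, dia_entries, ht, Units.val_inv_eq_inv_val, inv_inv,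
        Units.val_mk0] <;> field_simp <;> first | linear_combination hd | ring
  refine ⟨N.phi m * v * (N.phi m)⁻¹ * N.phi (upper x0), mul_mem (N.subP (N.normP m v hv)) (N.memP _),
    N.phi (lower y0) * (N.phi (dia t) * (N.phi (upper c)⁻¹ * w' * (N.phi (upper c)⁻¹)⁻¹) * (N.phi (dia t))⁻¹),
    mul_mem (N.memM _) (N.subM (N.normM _ _ (N.normM _ _ hw'))), N.co t * a,
    N.phi (upper ((((N.chi a)⁻¹ : kˣ) : k) * -c)) * u2, mul_mem (N.memP _) hu2, ?_⟩
  have hcinv : N.phi (upper c)⁻¹ = N.phi (upper (-c)) := by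
    congr 1
    refine inv_eq_of_mul_eq_one_right (sl_ext ?_ ?_ ?_ ?_) <;> simp [mul_entry, upper_entries]
  calc N.phi m * (v * N.phi (upper r) * (N.phi (lower q) * w') * T a * u2)
      = N.phi m * v * (N.phi m)⁻¹ * N.phi m3 * (N.phi (upper c)⁻¹ * w' * (N.phi (upper c)⁻¹)⁻¹) *
          (N.phi (upper c)⁻¹ * T a) * u2 := by
        simp only [hm3, hm2, map_mul, map_inv]; group
    _ = _ := by
        rw [hdec, map_mul, map_mul, map_mul, hcinv, N.swap', ← N.phi_dia]
        group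

end Node

section Two

variable {l : Type*} [Field l] (Na : Node T Um Up k) (Nb : Node T Um Up l)

theorem exists_rep (hA : ∀ a, ∀ w ∈ Na.Lm, T a * w * (T a)⁻¹ ∈ Na.Lm)
    (hB : ∀ a, ∀ w ∈ Nb.Lm, T a * w * (T a)⁻¹ ∈ Nb.Lm)
    (hgen : Subgroup.closure (Set.range Na.phi ∪ Set.range Nb.phi) = ⊤) (g : G) :
    ∃ v a u, Rep T Um Up g v a u := by
  suffices ∀ u w : G, ∀ a : A, ∀ u2 : G, u ∈ Up → w ∈ Um → u2 ∈ Up →
      ∃ x ∈ Up, ∃ y ∈ Um, ∃ a' : A, ∃ z ∈ Up, g * (u * w * T a * u2) = x * y * T a' * z by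
    obtain ⟨x, hx, y, hy, a, z, hz, h⟩ := this 1 1 1 1 (one_mem _) (one_mem _) (one_mem _)
    simp only [map_one, mul_one] at h
    refine ⟨y, a, z * x, hy, mul_mem hz hx, x⁻¹, ?_⟩
    rw [h]; group
  have hg : g ∈ Subgroup.closure (Set.range Na.phi ∪ Set.range Nb.phi) := hgen ▸ Subgroup.mem_top g
  induction hg using Subgroup.closure_induction'' with
  | mem x hx =>
    intro u w a u2 hu hw hu2
    rcases hx with ⟨m, rfl⟩ | ⟨m, rfl⟩
    · exact Na.cell_step hA m a hu hw hu2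
    · exact Nb.cell_step hB m a hu hw hu2
  | inv_mem x hx =>
    intro u w a u2 hu hw hu2
    rcases hx with ⟨m, rfl⟩ | ⟨m, rfl⟩
    · rw [← map_inv]; exact Na.cell_step hA m⁻¹ a hu hw hu2
    · rw [← map_inv]; exact Nb.cell_step hB m⁻¹ a hu hw hu2
  | one =>
    intro u w a u2 hu hw hu2
    exact ⟨u, hu, w, hw, a, u2, hu2, one_mul _⟩
  | mul x y _ _ hx hy =>
    intro u w a u2 hu hw hu2
    obtain ⟨x1, hx1, y1, hy1, a', z1, hz1, h⟩ := hy u w a u2 hu hw hu2
    obtain ⟨x2, hx2, y2, hy2, a'', z2, hz2, h'⟩ := hx x1 y1 a' z1 hx1 hy1 hz1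
    exact ⟨x2, hx2, y2, hy2, a'', z2, hz2, by rw [mul_assoc, h, h']⟩

theorem exists_active (hA : ∀ a, ∀ w ∈ Na.Lm, T a * w * (T a)⁻¹ ∈ Na.Lm)
    (hB : ∀ a, ∀ w ∈ Nb.Lm, T a * w * (T a)⁻¹ ∈ Nb.Lm)
    (hgen : Subgroup.closure (Set.range Na.phi ∪ Set.range Nb.phi) = ⊤)
    (hker : ∀ a, Na.chi a = 1 → Nb.chi a = 1 → a = 1)
    (hcoreP : ∀ w : G, (∀ x : G, x * w * x⁻¹ ∈ Up) → w = 1)
    (hcoreM : ∀ w : G, (∀ x : G, x * w * x⁻¹ ∈ Um) → w = 1) {g : G} (h1 : g ≠ 1) :
    (∃ v p a r u, Na.Dec g v p a r u ∧ Na.Active p a r) ∨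
      ∃ v p a r u, Nb.Dec g v p a r u ∧ Nb.Active p a r := by
  by_contra hno
  simp only [not_or, not_exists, not_and] at hno
  obtain ⟨hnA, hnB⟩ := hno
  have inact : ∀ {v u : G} {a : A}, Rep T Um Up g v a u →
      (v ∈ Na.Lm ∧ u ∈ Na.Lp ∧ Na.chi a = 1) ∧ (v ∈ Nb.Lm ∧ u ∈ Nb.Lp ∧ Nb.chi a = 1) := by
    intro v u a h
    refine ⟨?_, ?_⟩
    · obtain ⟨p, v', hv', rfl⟩ := Na.splitV v h.1
      obtain ⟨r, u', hu', rfl⟩ := Na.splitU u h.2.1
      have := hnA v' p a r u' ⟨hv', hu', h.2.2⟩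
      simp only [Node.Active, not_or, not_not] at this
      obtain ⟨rfl, rfl, h3⟩ := this
      have el : Na.phi (lower (0 : k)) = 1 := by
        rw [show lower (0 : k) = 1 from sl_ext (by simp [lower_entries]) (by simp [lower_entries])
          (by simp [lower_entries]) (by simp [lower_entries]), map_one]
      have eu : Na.phi (upper (0 : k)) = 1 := by
        rw [show upper (0 : k) = 1 from sl_ext (by simp [upper_entries]) (by simp [upper_entries])
          (by simp [upper_entries]) (by simp [upper_entries]), map_one]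
      rw [el, mul_one, eu, one_mul]
      exact ⟨hv', hu', h3⟩
    · obtain ⟨p, v', hv', rfl⟩ := Nb.splitV v h.1
      obtain ⟨r, u', hu', rfl⟩ := Nb.splitU u h.2.1
      have := hnB v' p a r u' ⟨hv', hu', h.2.2⟩
      simp only [Node.Active, not_or, not_not] at this
      obtain ⟨rfl, rfl, h3⟩ := this
      have el : Nb.phi (lower (0 : l)) = 1 := by
        rw [show lower (0 : l) = 1 from sl_ext (by simp [lower_entries]) (by simp [lower_entries])
          (by simp [lower_entries]) (by simp [lower_entries]), map_one]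
      have eu : Nb.phi (upper (0 : l)) = 1 := by
        rw [show upper (0 : l) = 1 from sl_ext (by simp [upper_entries]) (by simp [upper_entries])
          (by simp [upper_entries]) (by simp [upper_entries]), map_one]
      rw [el, mul_one, eu, one_mul]
      exact ⟨hv', hu', h3⟩
  obtain ⟨v, a, u, hrep⟩ := exists_rep Na Nb hA hB hgen g
  obtain ⟨⟨-, -, ha⟩, -, -, hb⟩ := inact hrep
  obtain rfl := hker a ha hb
  have stable : ∀ x : G, ∀ v u : G, Rep T Um Up g v 1 u → x * v * x⁻¹ ∈ Um ∧ x * u * x⁻¹ ∈ Up := by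
    intro x
    have hx : x ∈ Subgroup.closure (Set.range Na.phi ∪ Set.range Nb.phi) := hgen ▸ Subgroup.mem_top x
    induction hx using Subgroup.closure_induction'' with
    | mem x hx =>
      intro v u h
      obtain ⟨⟨a1, a2, -⟩, b1, b2, -⟩ := inact h
      rcases hx with ⟨m, rfl⟩ | ⟨m, rfl⟩
      · exact ⟨Na.subM (Na.normM m v a1), Na.subP (Na.normP m u a2)⟩
      · exact ⟨Nb.subM (Nb.normM m v b1), Nb.subP (Nb.normP m u b2)⟩
    | inv_mem x hx =>
      intro v u h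
      obtain ⟨⟨a1, a2, -⟩, b1, b2, -⟩ := inact h
      rcases hx with ⟨m, rfl⟩ | ⟨m, rfl⟩ <;> rw [← map_inv]
      · exact ⟨Na.subM (Na.normM _ v a1), Na.subP (Na.normP _ u a2)⟩
      · exact ⟨Nb.subM (Nb.normM _ v b1), Nb.subP (Nb.normP _ u b2)⟩
    | one =>
      intro v u h
      simp only [one_mul, inv_one, mul_one]
      exact ⟨h.1, h.2.1⟩
    | mul x y _ _ ihx ihy =>
      intro v u h
      obtain ⟨hv', hu'⟩ := ihy v u h
      have hrep' : Rep T Um Up g (y * v * y⁻¹) 1 (y * u * y⁻¹) := by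
        refine ⟨hv', hu', ?_⟩
        have h22 := h.2.2.conj y
        simp only [map_one, mul_one] at h22 ⊢
        convert h22 using 1
        group
      obtain ⟨c, d⟩ := ihx _ _ hrep'
      constructor
      · rw [show x * y * v * (x * y)⁻¹ = x * (y * v * y⁻¹) * x⁻¹ by group]; exact c
      · rw [show x * y * u * (x * y)⁻¹ = x * (y * u * y⁻¹) * x⁻¹ by group]; exact d
  have hu1 : u = 1 := hcoreP u fun x => (stable x v u hrep).2
  have hv1 : v = 1 := hcoreM v fun x => (stable x v u hrep).1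
  obtain ⟨-, -, c, e⟩ := hrep
  rw [hv1, hu1, map_one, one_mul, one_mul] at e
  apply h1
  calc g = c⁻¹ * (c * g * c⁻¹) * c := by group
    _ = 1 := by rw [← e]; group

end Two

end Cfsg.Agent.Lib.ThompsonD4
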