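import Cfsg.Agent.Lib.ThompsonD4.Roots
import Cfsg.Agent.Lib.ThompsonD4.Gauss

/-!
The two rank one nodes of `³D₄(q)` and its Gauss decompositions up to conjugacy (helper27).
-/

set_option autoImplicit false
set_option maxRecDepth 4000

namespace Cfsg.Agent.Lib.ThompsonD4

open Cfsg.Lie Cfsg.Agent.Lib.Chev Cfsg.Agent.Lib.Twisted Cfsg.Agent.Lib.Twisted.Core
open Cfsg.Agent.Lib.Chev.RankOneData (upper lower wElt sl_ext mul_entry upper_entries lower_entries wElt_entries)
open Cfsg.Agent.Lib.TrialityInv (X X_eq_xGL X_mem_group)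
open Cfsg.Agent.Lib.TrialityTorus (phi phi_upper phi_lower phi_diag phi_wElt phi_mem commute_phi torus_conj_phi
  simple_values)
open Cfsg.Agent.Lib.D4Deg41 (Hyp fixF mem_fixF fixF_coe)
open Cfsg.Agent.Lib.Schur.TwistD4P (cQ cQ_eqv wt_long wt_short nrm3 wS sOrb)
open Cfsg.Agent.Lib.Schur.TwistTwo (chkLt chkPair lt_of_chk)
open Cfsg.Agent.Lib.Schur.TwistLift (RootLayers)
open scoped Matrix MatrixGroups

variable {K : Type*} [Field K] {q : ℕ} {φ : K ≃+* K}

theorem map_upper {L : Type*} [Field L] (f : K →+* L) (t : K) :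
    Matrix.SpecialLinearGroup.map f (upper t) = upper (f t) := by
  refine sl_ext ?_ ?_ ?_ ?_ <;> simp [upper_entries] <;> simp [upper]

theorem map_lower {L : Type*} [Field L] (f : K →+* L) (t : K) :
    Matrix.SpecialLinearGroup.map f (lower t) = lower (f t) := by
  refine sl_ext ?_ ?_ ?_ ?_ <;> simp [lower_entries] <;> simp [lower]

theorem map_wElt {L : Type*} [Field L] (f : K →+* L) :
    Matrix.SpecialLinearGroup.map (n := Fin 2) f wElt = wElt := by
  refine sl_ext ?_ ?_ ?_ ?_ <;> simp [wElt_entries] <;> simp [wElt]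

theorem map_dia {L : Type*} [Field L] (f : K →+* L) (t : Kˣ) :
    Matrix.SpecialLinearGroup.map f (dia t) = dia (Units.map f.toMonoidHom t) := by
  refine sl_ext ?_ ?_ ?_ ?_ <;> simp [dia_entries] <;> simp [dia]

theorem map_sc {L : Type*} [Field L] (f : K →+* L) (a : Kˣ) (g : SL(2, K)) :
    Matrix.SpecialLinearGroup.map f (sc a g) = sc (Units.map f.toMonoidHom a) (Matrix.SpecialLinearGroup.map f g) := by
  refine sl_ext ?_ ?_ ?_ ?_ <;> simp [sc_entries, Units.val_inv_eq_inv_val]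

variable (φ) in
/-- The automorphism on `SL₂`. -/
noncomputable abbrev mφ : SL(2, K) →* SL(2, K) := Matrix.SpecialLinearGroup.map φ.toRingHom

variable (φ) in
/-- The rank one homomorphism of the short node, in the matrix group. -/
noncomputable def psiA : SL(2, K) →* GL chevD4.Idx K :=
  ((phi K (i := 0) (by decide)).noncommCoprod
    (((phi K (i := 2) (by decide)).comp (mφ φ)).noncommCoprod
      ((phi K (i := 3) (by decide)).comp ((mφ φ).comp (mφ φ)))
      (fun u v => commute_phi _ _ (by simp) (by simp) (by omega) _ _))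
    (fun u v => by
      rw [MonoidHom.noncommCoprod_apply]
      exact (commute_phi _ _ (by simp) (by simp) (by omega) _ _).mul_right
        (commute_phi _ _ (by simp) (by simp) (by omega) _ _))).comp
    ((MonoidHom.id _).prod ((MonoidHom.id _).prod (MonoidHom.id _)))

theorem psiA_apply (g : SL(2, K)) : psiA φ g =
    phi K (i := 0) (by decide) g *
      (phi K (i := 2) (by decide) (mφ φ g) * phi K (i := 3) (by decide) (mφ φ (mφ φ g))) := rfl

theorem phi_X {i : ℕ} (hi : i < chevD4.rank) (t : K) :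
    phi K hi (upper t) = X (chevD4.simple i) t ∧ phi K hi (lower t) = X (ng chevD4 (chevD4.simple i)) t := by
  have h := rootedD4.toChecked
  exact ⟨(phi_upper hi t).trans (X_eq_xGL (h.simple_lt hi) t).symm,
    (phi_lower hi t).trans (X_eq_xGL (Checked.ng_lt (h.simple_lt hi)) t).symm⟩

theorem psiA_upper (t : K) : psiA φ (upper t) = X 18 t * (X 13 (φ t) * X 12 (φ (φ t))) := by
  simp only [psiA_apply, mφ, map_upper, (phi_X (K := K) _ _).1]
  rfl

theorem psiA_lower (t : K) : psiA φ (lower t) = X 5 t * (X 10 (φ t) * X 11 (φ (φ t))) := by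
  simp only [psiA_apply, mφ, map_lower, (phi_X (K := K) _ _).2]
  rfl

variable (φ) in
/-- The rank one homomorphism of the long node, in the matrix group. -/
noncomputable def psiB : SL(2, fixF φ) →* GL chevD4.Idx K :=
  (phi K (i := 1) (by decide)).comp (Matrix.SpecialLinearGroup.map (fixF φ).subtype)

theorem psiB_upper (t : fixF φ) : psiB φ (upper t) = X 14 (t : K) := by
  simp only [psiB, MonoidHom.comp_apply, map_upper, (phi_X (K := K) _ _).1]
  rfl

theorem psiB_lower (t : fixF φ) : psiB φ (lower t) = X 9 (t : K) := by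
  simp only [psiB, MonoidHom.comp_apply, map_lower, (phi_X (K := K) _ _).2]
  rfl

theorem sig_X {r : ℕ} (hr : r < 24) (t : K) :
    (d4Twist φ).sig (X r t) = X (d4Graph.root r) ((d4Graph.sign r : K) * φ t) := by
  have hr' : r < chevD4.nroots := hr
  rw [X_eq_xGL hr', X_eq_xGL (show d4Graph.root r < chevD4.nroots from ((d4Twist φ).rho ⟨r, hr'⟩).2)]
  exact ((d4Twist φ).sig_x hr' t).trans (by rw [show (d4Twist φ).f r t = _ from rfl]; rfl)

theorem psiA_normalizes {L : List ℕ}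
    (h : (chkLt L && chkPair orbA L L && chkPair (opp orbA) L L) = true) (m : SL(2, K)) :
    psiA φ m ∈ Subgroup.normalizer (rg K L : Set (GL chevD4.Idx K)) := by
  simp only [Bool.and_eq_true] at h
  refine sl2_le _ _ (fun t => ?_) (fun t => ?_) m
  · rw [psiA_upper]
    exact mem_norm h.1.1 (by decide) h.1.2
      (mul_mem (X_mem_rg (by decide) _) (mul_mem (X_mem_rg (by decide) _) (X_mem_rg (by decide) _)))
  · rw [psiA_lower]
    exact mem_norm h.1.1 (by decide) h.2
      (mul_mem (X_mem_rg (by decide) _) (mul_mem (X_mem_rg (by decide) _) (X_mem_rg (by decide) _)))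

theorem psiB_normalizes {L : List ℕ}
    (h : (chkLt L && chkPair orbB L L && chkPair (opp orbB) L L) = true) (m : SL(2, fixF φ)) :
    psiB φ m ∈ Subgroup.normalizer (rg K L : Set (GL chevD4.Idx K)) := by
  simp only [Bool.and_eq_true] at h
  refine sl2_le _ _ (fun t => ?_) (fun t => ?_) m
  · rw [psiB_upper]; exact mem_norm h.1.1 (by decide) h.1.2 (X_mem_rg (by decide) _)
  · rw [psiB_lower]; exact mem_norm h.1.1 (by decide) h.2 (X_mem_rg (by decide) _)

variable [Fintype K] (H : Hyp K q φ)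
include H

theorem mem_iff {g : GL chevD4.Idx K} :
    g ∈ twistedD4 K q ↔ g ∈ chevD4.group K ∧ (d4Twist φ).sig g = g := by
  rw [show twistedD4 K q = (d4Twist φ).fixedGroup from (d4Orbits H.hq H.hK φ H.hφ H.phi3).system.eq_fixedGroup]
  exact (d4Twist φ).mem_fixedGroup

theorem psiA_mem (m : SL(2, K)) : psiA φ m ∈ twistedD4 K q := by
  have e2 : ∀ t : K, φ (φ t) = t ^ q ^ 2 := fun t => by rw [H.hφ, H.hφ, ← pow_mul, sq]
  refine sl2_le _ _ (fun t => ?_) (fun t => ?_) m
  · refine Subgroup.subset_closure ⟨[(d4p1, t), (d4p3, t ^ q), (d4p4, t ^ q ^ 2)],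
      Or.inr ⟨t, (d4p1, d4p3, d4p4), by simp, rfl⟩, ?_⟩
    rw [psiA_upper, e2, H.hφ, X_eq_xGL (by decide), X_eq_xGL (by decide), X_eq_xGL (by decide)]
    simp [ChevalleyDatum.wordMat, d4p1, d4p3, d4p4, coe_xGL]
  · refine Subgroup.subset_closure ⟨[(d4m1, t), (d4m3, t ^ q), (d4m4, t ^ q ^ 2)],
      Or.inr ⟨t, (d4m1, d4m3, d4m4), by simp, rfl⟩, ?_⟩
    rw [psiA_lower, e2, H.hφ, X_eq_xGL (by decide), X_eq_xGL (by decide), X_eq_xGL (by decide)]
    simp [ChevalleyDatum.wordMat, d4m1, d4m3, d4m4, coe_xGL]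

theorem psiB_mem (m : SL(2, fixF φ)) : psiB φ m ∈ twistedD4 K q := by
  refine sl2_le _ _ (fun t => ?_) (fun t => ?_) m
  · refine Subgroup.subset_closure ⟨[(d4p2, (t : K))],
      Or.inl ⟨(t : K), by rw [← H.hφ]; exact t.2, d4p2, by simp, rfl⟩, ?_⟩
    rw [psiB_upper, X_eq_xGL (by decide)]
    simp [ChevalleyDatum.wordMat, d4p2, coe_xGL]
  · refine Subgroup.subset_closure ⟨[(d4m2, (t : K))],
      Or.inl ⟨(t : K), by rw [← H.hφ]; exact t.2, d4m2, by simp, rfl⟩, ?_⟩
    rw [psiB_lower, X_eq_xGL (by decide)]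
    simp [ChevalleyDatum.wordMat, d4m2, coe_xGL]

/-- The short node. -/
noncomputable def phiA : SL(2, K) →* ↥(twistedD4 K q) := (psiA φ).codRestrict _ (psiA_mem H)

/-- The long node. -/
noncomputable def phiB : SL(2, fixF φ) →* ↥(twistedD4 K q) := (psiB φ).codRestrict _ (psiB_mem H)

theorem coe_phiA (m : SL(2, K)) : (phiA H m : GL chevD4.Idx K) = psiA φ m := rfl

theorem coe_phiB (m : SL(2, fixF φ)) : (phiB H m : GL chevD4.Idx K) = psiB φ m := rfl

omit [Fintype K] H in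
variable (φ) in
/-- The parameters of the torus. -/
noncomputable def par (a : Kˣ × (fixF φ)ˣ) : ℕ → Kˣ :=
  cQ φ a.1 (Units.map (fixF φ).subtype.toMonoidHom a.2)

omit [Fintype K] H in
theorem par_mul (a b : Kˣ × (fixF φ)ˣ) : par φ (a * b) = par φ a * par φ b := by
  funext i
  simp only [par, cQ, Pi.mul_apply]
  split_ifs <;> simp

theorem torus_mem (a : Kˣ × (fixF φ)ˣ) : torusHom chevD4 K (par φ a) ∈ twistedD4 K q :=
  (d4Orbits H.hq H.hK φ H.hφ H.phi3).torus_mem (cQ_eqv φ H.phi3 (fixF_coe _))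

/-- The torus. -/
noncomputable def tor : Kˣ × (fixF φ)ˣ →* ↥(twistedD4 K q) :=
  MonoidHom.mk' (fun a => ⟨torusHom chevD4 K (par φ a), torus_mem H a⟩)
    fun a b => Subtype.ext (show torusHom chevD4 K (par φ (a * b)) = torusHom chevD4 K (par φ a) *
      torusHom chevD4 K (par φ b) by rw [par_mul, map_mul])

theorem coe_tor (a : Kˣ × (fixF φ)ˣ) : (tor H a : GL chevD4.Idx K) = torusHom chevD4 K (par φ a) := rfl

/-- The norm. -/
noncomputable def nU : Kˣ →* (fixF φ)ˣ :=
  MonoidHom.mk' H.nrm fun a b => Units.ext (Subtype.ext (by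
    rw [Units.val_mul, MulMemClass.coe_mul, H.coe_nrm, H.coe_nrm, H.coe_nrm, Units.val_mul, map_mul, map_mul]
    ring))

theorem coe_nU (t : Kˣ) : ((nU H t : fixF φ) : K) = nrm3 φ (t : K) := rfl

omit [Fintype K] H in
variable (φ) in
/-- The short simple root. -/
noncomputable def chiA : Kˣ × (fixF φ)ˣ →* Kˣ :=
  (powMonoidHom 2).comp (MonoidHom.fst _ _) / (Units.map (fixF φ).subtype.toMonoidHom).comp (MonoidHom.snd _ _)

omit [Fintype K] H in
theorem coe_chiA (a : Kˣ × (fixF φ)ˣ) : (chiA φ a : K) = (a.1 : K) ^ 2 / ((a.2 : fixF φ) : K) := by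
  simp [chiA, div_eq_mul_inv]

/-- The long simple root. -/
noncomputable def chiB : Kˣ × (fixF φ)ˣ →* (fixF φ)ˣ :=
  (powMonoidHom 2).comp (MonoidHom.snd _ _) / (nU H).comp (MonoidHom.fst _ _)

theorem coe_chiB (a : Kˣ × (fixF φ)ˣ) :
    ((chiB H a : fixF φ) : K) = ((a.2 : fixF φ) : K) ^ 2 / nrm3 φ (a.1 : K) := by
  simp [chiB, div_eq_mul_inv, coe_nU]

theorem par_a (a : Kˣ × (fixF φ)ˣ) :
    (torusFun chevD4 (par φ a) 18 : K) = chiA φ a ∧ (torusFun chevD4 (par φ a) 13 : K) = φ (chiA φ a) ∧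
      (torusFun chevD4 (par φ a) 12 : K) = φ (φ (chiA φ a)) ∧
      (torusFun chevD4 (par φ a) 14 : K) = ((chiB H a : fixF φ) : K) := by
  have hv : φ ((Units.map (fixF φ).subtype.toMonoidHom a.2 : Kˣ) : K) =
      (Units.map (fixF φ).subtype.toMonoidHom a.2 : Kˣ) := fixF_coe _
  have e : wS φ a.1 (Units.map (fixF φ).subtype.toMonoidHom a.2) 2 = chiA φ a := by rw [coe_chiA]; rfl
  have hs := fun i : Fin 3 => wt_short φ H.phi3 a.1 _ hv 2 i
  rw [e] at hs
  exact ⟨hs 0, hs 1, hs 2, by rw [coe_chiB]; exact (wt_long φ a.1 _).2.2.1⟩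

theorem tor_conj_phiA (a : Kˣ × (fixF φ)ˣ) (m : SL(2, K)) :
    tor H a * phiA H m * (tor H a)⁻¹ = phiA H (sc (chiA φ a) m) := by
  refine Subtype.ext ?_
  obtain ⟨e0, e2, e3, -⟩ := par_a H a
  simp only [Subgroup.coe_mul, Subgroup.coe_inv, coe_phiA, coe_tor, psiA_apply]
  set c := par φ a
  have u0 : torusFun chevD4 c (chevD4.simple 0) = chiA φ a := Units.ext e0
  have u2 : torusFun chevD4 c (chevD4.simple 2) = Units.map φ.toRingHom.toMonoidHom (chiA φ a) := Units.ext e2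
  have u3 : torusFun chevD4 c (chevD4.simple 3) =
      Units.map φ.toRingHom.toMonoidHom (Units.map φ.toRingHom.toMonoidHom (chiA φ a)) := Units.ext e3
  have hs : ∀ (b : Kˣ) (g : SL(2, K)), TrialityTorus.scale b g = sc b g := fun _ _ => rfl
  calc torusHom chevD4 K c * (phi K _ m * (phi K _ (mφ φ m) * phi K _ (mφ φ (mφ φ m)))) * (torusHom chevD4 K c)⁻¹
      = (torusHom chevD4 K c * phi K (i := 0) (by decide) m * (torusHom chevD4 K c)⁻¹) *
        ((torusHom chevD4 K c * phi K (i := 2) (by decide) (mφ φ m) * (torusHom chevD4 K c)⁻¹) *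
          (torusHom chevD4 K c * phi K (i := 3) (by decide) (mφ φ (mφ φ m)) * (torusHom chevD4 K c)⁻¹)) := by group
    _ = _ := by simp only [torus_conj_phi, u0, u2, u3, hs, mφ, map_sc]

theorem tor_conj_phiB (a : Kˣ × (fixF φ)ˣ) (m : SL(2, fixF φ)) :
    tor H a * phiB H m * (tor H a)⁻¹ = phiB H (sc (chiB H a) m) := by
  refine Subtype.ext ?_
  have hs : ∀ (b : Kˣ) (g : SL(2, K)), TrialityTorus.scale b g = sc b g := fun _ _ => rfl
  have u1 : torusFun chevD4 (par φ a) (chevD4.simple 1) = Units.map (fixF φ).subtype.toMonoidHom (chiB H a) :=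
    Units.ext (par_a H a).2.2.2
  simp only [Subgroup.coe_mul, Subgroup.coe_inv, coe_phiB, coe_tor, psiB, MonoidHom.comp_apply, torus_conj_phi,
    u1, hs, map_sc]

theorem phiA_dia (t : Kˣ) : phiA H (dia t) = tor H (t, 1) := by
  refine Subtype.ext ?_
  have hd : ∀ b : Kˣ, TrialityTorus.diag2 b = dia b := fun _ => rfl
  rw [coe_phiA, coe_tor, psiA_apply, mφ, map_dia, map_dia, ← hd, ← hd, ← hd, phi_diag, phi_diag, phi_diag,
    ← map_mul, ← map_mul]
  refine Twist.torusHom_congr fun i hi => ?_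
  change i < 4 at hi
  interval_cases i <;> simp [par, cQ] <;> rfl

theorem phiB_dia (s : (fixF φ)ˣ) : phiB H (dia s) = tor H (1, s) := by
  refine Subtype.ext ?_
  have hd : ∀ b : Kˣ, TrialityTorus.diag2 b = dia b := fun _ => rfl
  rw [coe_phiB, coe_tor, psiB, MonoidHom.comp_apply, map_dia, ← hd, phi_diag]
  refine Twist.torusHom_congr fun i hi => ?_
  change i < 4 at hi
  interval_cases i <;> simp [par, cQ]

omit H in
/-- A twisted subgroup of a list of roots. -/
abbrev sub (K : Type*) [Field K] (q : ℕ) (L : List ℕ) : Subgroup ↥(twistedD4 K q) :=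
  (rg K L).subgroupOf (twistedD4 K q)

/-- A fixed product over two disjoint invariant closed sets of positive roots has fixed factors. -/
theorem fixed_factors {A B : List ℕ}
    (hc : (A.all (fun r => decide (r ∈ posL)) && B.all (fun r => decide (r ∈ posL)) && chkPair A A A &&
      chkPair B B B && A.all (fun r => decide (r ∉ B)) && A.all (fun r => decide (d4Graph.root r ∈ A)) &&
      B.all (fun r => decide (d4Graph.root r ∈ B))) = true)
    {a b : GL chevD4.Idx K} (ha : a ∈ rg K A) (hb : b ∈ rg K B) (h : a * b ∈ twistedD4 K q) :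
    a ∈ twistedD4 K q ∧ b ∈ twistedD4 K q := by
  simp only [Bool.and_eq_true, List.all_eq_true, decide_eq_true_eq] at hc
  obtain ⟨⟨⟨⟨⟨⟨hA, hB⟩, hAc⟩, hBc⟩, hd⟩, hρA⟩, hρB⟩ := hc
  have hA' := pos_of_chk (List.all_eq_true.2 fun r hr => decide_eq_true (hA r hr))
  have hB' := pos_of_chk (List.all_eq_true.2 fun r hr => decide_eq_true (hB r hr))
  have haG : a ∈ chevD4.group K := rootGen_le_group (fun r hr => (hA' hr).2) ha
  have hbG : b ∈ chevD4.group K := rootGen_le_group (fun r hr => (hB' hr).2) hb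
  have hgf := ((mem_iff H).1 h).2
  rw [(d4Twist φ).sig_mul haG hbG] at hgf
  have h1 : a⁻¹ * (d4Twist φ).sig a = b * ((d4Twist φ).sig b)⁻¹ := by
    calc a⁻¹ * (d4Twist φ).sig a =
        a⁻¹ * ((d4Twist φ).sig a * (d4Twist φ).sig b) * ((d4Twist φ).sig b)⁻¹ := by group
      _ = _ := by rw [hgf]; group
  have h2 : a⁻¹ * (d4Twist φ).sig a = 1 := RootLayers.rootGen_disjoint rootedD4 hA' hB' (closed_of_chk hAc)
    (closed_of_chk hBc) hd
    (mul_mem (inv_mem ha) ((d4Twist φ).sig_rootGen (fun r hr => (hA' hr).2) (fun r hr => hρA r.val hr) ha))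
    (h1 ▸ mul_mem hb (inv_mem ((d4Twist φ).sig_rootGen (fun r hr => (hB' hr).2) (fun r hr => hρB r.val hr) hb)))
  have haf : a ∈ twistedD4 K q := (mem_iff H).2 ⟨haG, (inv_mul_eq_one.1 h2).symm⟩
  refine ⟨haf, ?_⟩
  rw [show b = a⁻¹ * (a * b) by group]
  exact mul_mem (inv_mem haf) h

omit [Fintype K] H in
theorem split_pos {A B : List ℕ}
    (hc : (chkLt A && chkLt B && chkPair A B B && posL.all (fun r => decide (r ∈ A ++ B))) = true)
    {g : GL chevD4.Idx K} (hg : g ∈ rg K posL) : ∃ a ∈ rg K A, ∃ b ∈ rg K B, g = a * b := by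
  simp only [Bool.and_eq_true] at hc
  obtain ⟨⟨⟨hA, hB⟩, hAB⟩, hcov⟩ := hc
  have hle : rg K posL ≤ rg K A ⊔ rg K B := by
    refine (Subgroup.closure_le _).2 ?_
    rintro x ⟨r, t, hr, e⟩
    rcases List.mem_append.1 (of_decide_eq_true (List.all_eq_true.1 hcov r hr)) with h | h
    · exact Subgroup.mem_sup_left (mem_rootGen (S := {r | r ∈ A}) h e)
    · exact Subgroup.mem_sup_right (mem_rootGen (S := {r | r ∈ B}) h e)
  have hg' : g ∈ (↑(rg K A ⊔ rg K B : Subgroup (GL chevD4.Idx K)) : Set (GL chevD4.Idx K)) := hle hg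
  rw [Subgroup.coe_mul_of_left_le_normalizer_right _ _ (fun x hx => mem_norm hB hA hAB hx)] at hg'
  obtain ⟨a, ha, b, hb, e⟩ := hg'
  exact ⟨a, ha, b, hb, e.symm⟩

theorem splitU_A {u : ↥(twistedD4 K q)} (hu : u ∈ sub K q posL) :
    ∃ r : K, ∃ u' ∈ sub K q radA, u = phiA H (upper r) * u' := by
  obtain ⟨a, ha, b, hb, e⟩ := split_pos (A := orbA) (B := radA) (by decide +kernel) hu
  replace e : (u : GL chevD4.Idx K) = a * b := e
  obtain ⟨haf, hbf⟩ := fixed_factors H (by decide +kernel) ha hb (e ▸ u.2)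
  let O := d4Orbits H.hq H.hK φ H.hφ H.phi3
  obtain ⟨-, hL, -, -, hnd, ho, -⟩ := O.facts 1
  have h1 : a ∈ rootGen chevD4 K {r | r ∈ (O.orb 1).map chevD4.simple} := by
    refine rootGen_mono (fun r hr => ?_) ha
    have : ∀ r ∈ orbA, r ∈ (d4Orb 1).map chevD4.simple := by decide +kernel
    exact this r hr
  obtain ⟨t, et⟩ := exists_orbElt rootedD4.toChecked hL hnd ho h1
  have hG : orbElt rootedD4.toChecked K (O.orb 1) (O.isWordOrb 1) t ∈ (d4Twist φ).fixedGroup := by
    rw [← et]; exact (d4Twist φ).mem_fixedGroup.2 ((mem_iff H).1 haf)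
  have ht := (O.orbElt_fixed_iff 1 t).1 hG
  refine ⟨t 0, ⟨b, hbf⟩, hb, Subtype.ext ?_⟩
  rw [Subgroup.coe_mul, coe_phiA, psiA_upper, e]
  congr 1
  have t2 : t 2 = φ (t 0) := ht 0 (by simp [O, d4Orbits, d4Orb])
  have t3 : t 3 = φ (t 2) := ht 2 (by simp [O, d4Orbits, d4Orb])
  rw [et, ← t2, ← t3, X_eq_xGL (by decide), X_eq_xGL (by decide), X_eq_xGL (by decide)]
  simp [O, d4Orbits, d4Orb, orbElt]
  rfl

theorem splitU_B {u : ↥(twistedD4 K q)} (hu : u ∈ sub K q posL) :
    ∃ r : fixF φ, ∃ u' ∈ sub K q radB, u = phiB H (upper r) * u' := by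
  obtain ⟨a, ha, b, hb, e⟩ := split_pos (A := orbB) (B := radB) (by decide +kernel) hu
  replace e : (u : GL chevD4.Idx K) = a * b := e
  obtain ⟨haf, hbf⟩ := fixed_factors H (by decide +kernel) ha hb (e ▸ u.2)
  let O := d4Orbits H.hq H.hK φ H.hφ H.phi3
  obtain ⟨-, hL, -, -, hnd, ho, -⟩ := O.facts 0
  have h1 : a ∈ rootGen chevD4 K {r | r ∈ (O.orb 0).map chevD4.simple} := by
    refine rootGen_mono (fun r hr => ?_) ha
    have : ∀ r ∈ orbB, r ∈ (d4Orb 0).map chevD4.simple := by decide +kernel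
    exact this r hr
  obtain ⟨t, et⟩ := exists_orbElt rootedD4.toChecked hL hnd ho h1
  have hG : orbElt rootedD4.toChecked K (O.orb 0) (O.isWordOrb 0) t ∈ (d4Twist φ).fixedGroup := by
    rw [← et]; exact (d4Twist φ).mem_fixedGroup.2 ((mem_iff H).1 haf)
  have ht : φ (t 1) = t 1 := ((O.orbElt_fixed_iff 0 t).1 hG 1 (by simp [O, d4Orbits, d4Orb])).symm
  refine ⟨⟨t 1, mem_fixF.2 ht⟩, ⟨b, hbf⟩, hb, Subtype.ext ?_⟩
  rw [Subgroup.coe_mul, coe_phiB, psiB_upper, e]
  congr 1
  rw [et, X_eq_xGL (by decide)]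
  simp [O, d4Orbits, d4Orb, orbElt]
  rfl

end Cfsg.Agent.Lib.ThompsonD4
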