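import Cfsg.Agent.Lib.ThompsonD4.Nodes

/-!
For `q ≥ 4` every nontrivial element of `³D₄(q)` is a product of two conjugates of a regular diagonal element
(helper27).
-/

set_option autoImplicit false
set_option maxRecDepth 4000

namespace Cfsg.Agent.Lib.ThompsonD4

open Cfsg.Lie Cfsg.Agent.Lib.Chev Cfsg.Agent.Lib.Twisted Cfsg.Agent.Lib.Twisted.Core
open Cfsg.Agent.Lib.Chev.RankOneData (upper lower)
open Cfsg.Agent.Lib.TrialityInv (X)
open Cfsg.Agent.Lib.D4Deg41 (Hyp fixF mem_fixF fixF_coe)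
open Cfsg.Agent.Lib.Schur.TwistD4P (cQ wt_long wt_short nrm3 wS sOrb sOrb_of)
open Cfsg.Agent.Lib.Schur.TwistTwo (chkLt chkPair rg_nil)
open scoped Matrix MatrixGroups

variable {K : Type*} [Field K] [Fintype K] {q : ℕ} {φ : K ≃+* K} (H : Hyp K q φ)
include H

/-- The values of the positive roots on a diagonal element. -/
theorem par_values (a : Kˣ × (fixF φ)ˣ) (r : ℕ) (hr : r ∈ posL)
    (hv : (torusFun chevD4 (par φ a) r : K) = 1) :
    (r ∈ orbA ∧ (chiA φ a : K) = 1) ∨ (r = 14 ∧ ((chiB H a : fixF φ) : K) = 1) ∨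
      (r ∈ [19, 16, 15] ∧ (a.1 : K) ^ 2 * ((a.2 : fixF φ) : K) = nrm3 φ (a.1 : K)) ∨
      (r ∈ [17, 20, 21] ∧ nrm3 φ (a.1 : K) = (a.1 : K) ^ 2) ∨
      (r = 22 ∧ nrm3 φ (a.1 : K) = ((a.2 : fixF φ) : K)) ∨ (r = 23 ∧ ((a.2 : fixF φ) : K) = 1) := by
  have hv' : φ ((Units.map (fixF φ).subtype.toMonoidHom a.2 : Kˣ) : K) =
      (Units.map (fixF φ).subtype.toMonoidHom a.2 : Kˣ) := fixF_coe _
  have hs : ((Units.map (fixF φ).subtype.toMonoidHom a.2 : Kˣ) : K) = ((a.2 : fixF φ) : K) := rfl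
  obtain ⟨l23, l22, -, -, -⟩ := wt_long φ a.1 (Units.map (fixF φ).subtype.toMonoidHom a.2)
  have short : ∀ j : Fin 3, r ∈ sOrb j → wS φ a.1 (Units.map (fixF φ).subtype.toMonoidHom a.2) j = 1 := by
    intro j hj
    by_contra hne
    exact sOrb_of φ (fun x => x ≠ 1) (fun x hx e => hx (φ.injective (e.trans (map_one φ).symm)))
      (wt_short φ H.phi3 a.1 _ hv' j) hne r hj hv
  have hn0 : nrm3 φ (a.1 : K) ≠ 0 := by simp [nrm3]
  have hs0 : ((a.2 : fixF φ) : K) ≠ 0 := fun e => a.2.ne_zero (Subtype.ext e)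
  have ht0 : (a.1 : K) ^ 2 ≠ 0 := pow_ne_zero _ a.1.ne_zero
  have hcases : r ∈ orbA ∨ r = 14 ∨ r ∈ [19, 16, 15] ∨ r ∈ [17, 20, 21] ∨ r = 22 ∨ r = 23 := by
    simp only [List.mem_cons, List.not_mem_nil, or_false] at hr ⊢
    omega
  obtain ⟨e18, e13, e12, e14⟩ := par_a H a
  rcases hcases with h | rfl | h | h | rfl | rfl
  · refine Or.inl ⟨h, ?_⟩
    simp only [List.mem_cons, List.not_mem_nil, or_false] at h
    rcases h with rfl | rfl | rfl
    · rwa [e18] at hv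
    · rw [e13] at hv; exact φ.injective (hv.trans (by simp))
    · rw [e12] at hv; exact φ.injective (φ.injective (hv.trans (by simp)))
  · exact Or.inr (Or.inl ⟨rfl, by rwa [e14] at hv⟩)
  · refine Or.inr (Or.inr (Or.inl ⟨h, ?_⟩))
    have h1 : (a.1 : K) ^ 2 * ((a.2 : fixF φ) : K) / nrm3 φ (a.1 : K) = 1 := short 1 h
    exact (div_eq_one_iff_eq hn0).1 h1
  · refine Or.inr (Or.inr (Or.inr (Or.inl ⟨h, ?_⟩)))
    have h1 : nrm3 φ (a.1 : K) / (a.1 : K) ^ 2 = 1 := short 0 h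
    exact (div_eq_one_iff_eq ht0).1 h1
  · refine Or.inr (Or.inr (Or.inr (Or.inr (Or.inl ⟨rfl, ?_⟩))))
    change (torusFun chevD4 (cQ φ _ _) 22 : K) = 1 at hv
    rw [l22, hs] at hv
    exact (div_eq_one_iff_eq hs0).1 hv
  · refine Or.inr (Or.inr (Or.inr (Or.inr (Or.inr ⟨rfl, ?_⟩))))
    change (torusFun chevD4 (cQ φ _ _) 23 : K) = 1 at hv
    rwa [l23, hs] at hv

theorem exists_avoid (hq3 : 3 ≤ q) (x : K) : ∃ s : (fixF φ)ˣ, ((s : fixF φ) : K) ≠ x := by
  classical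
  have := Fintype.ofFinite (fixF φ)
  by_contra hcon
  push Not at hcon
  have hle : (Finset.univ : Finset ↥(fixF φ)).image (Subtype.val : ↥(fixF φ) → K) ⊆ {0, x} := by
    intro y hy
    obtain ⟨z, -, rfl⟩ := Finset.mem_image.1 hy
    by_cases hz : z = 0
    · simp [hz]
    · simp [← hcon (Units.mk0 z hz)]
  have h1 := (Finset.card_le_card hle).trans Finset.card_le_two
  rw [Finset.card_image_of_injective _ Subtype.val_injective, Finset.card_univ, Fintype.card_eq_nat_card,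
    H.card_k] at h1
  omega

/-- A conjugate of every nontrivial element has a decomposition with trivial first torus coordinate. -/
theorem exists_rep_fst (hq3 : 3 ≤ q) {g : ↥(twistedD4 K q)} (hg : g ≠ 1) :
    ∃ v p a r u, (nodeA H).Dec g v p a r u ∧ (nodeA H).Active p a r := by
  rcases exists_active' H hg with h | ⟨v, p, a, r, u, h, hact⟩
  · exact h
  · obtain ⟨s', hs'⟩ := exists_avoid H hq3 ((a.1 : K) ^ 2)
    obtain ⟨v', p', r', u', h'⟩ := (nodeB H).move h hact (s' * a.2⁻¹)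
    obtain ⟨w, p'', r'', z, hw⟩ := (nodeA H).exists_dec h'.toRep
    refine ⟨_, _, _, _, _, hw, Or.inr (Or.inr ?_)⟩
    intro e
    have e' : (chiA φ (a * (1, s' * a.2⁻¹)) : K) = 1 := by
      rw [show chiA φ (a * (1, s' * a.2⁻¹)) = 1 from e]; simp
    rw [coe_chiA] at e'
    simp only [Prod.fst_mul, Prod.snd_mul, mul_one, mul_comm a.2, inv_mul_cancel_right] at e'
    exact hs' ((div_eq_one_iff_eq (fun e0 => s'.ne_zero (Subtype.ext e0))).1 e').symm

/-- A conjugate of every nontrivial element is a product of unipotent elements of opposite sign. -/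
theorem exists_rep_one (hq3 : 3 ≤ q) {g : ↥(twistedD4 K q)} (hg : g ≠ 1) :
    ∃ v ∈ sub K q (opp posL), ∃ u ∈ sub K q posL, Cj g (v * u) := by
  obtain ⟨v, p, a, r, u, h, hact⟩ := exists_rep_fst H hq3 hg
  -- a first parameter for which the long node is active and the square is not one
  obtain ⟨s1, hs1⟩ := exists_avoid H hq3 (((a.2 : fixF φ) : K) ^ 2)
  obtain ⟨t0, ht0N, ht0⟩ := H.exists_norm_one
  obtain ⟨tn, htn⟩ := H.exists_norm s1.ne_zero
  obtain ⟨t1, ht1N, ht1⟩ : ∃ t1 : Kˣ, nrm3 φ (t1 : K) = ((s1 : fixF φ) : K) ∧ (t1 : K) ^ 2 ≠ 1 := by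
    by_cases e : (tn : K) ^ 2 = 1
    · refine ⟨tn * t0, ?_, ?_⟩
      · rw [← htn, nrm3, Units.val_mul, map_mul, map_mul]
        linear_combination ((tn : K) * φ tn * φ (φ tn)) * ht0N
      · rw [Units.val_mul, mul_pow, e, one_mul]; exact ht0
    · exact ⟨tn, htn, e⟩
  obtain ⟨v1, p1, r1, u1, h1⟩ := (nodeA H).move h hact (t1 * a.1⁻¹)
  obtain ⟨v2, p2, r2, u2, h2⟩ := (nodeB H).exists_dec h1.toRep
  have hactB : (nodeB H).Active p2 (a * (nodeA H).co (t1 * a.1⁻¹)) r2 := by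
    refine Or.inr (Or.inr fun e => ?_)
    have e' : ((chiB H (a * (t1 * a.1⁻¹, 1)) : fixF φ) : K) = 1 := by
      rw [show chiB H (a * (t1 * a.1⁻¹, 1)) = 1 from e]; simp
    rw [coe_chiB] at e'
    simp only [Prod.fst_mul, Prod.snd_mul, mul_one, mul_comm a.1, inv_mul_cancel_right, ht1N] at e'
    exact hs1 ((div_eq_one_iff_eq (fun e0 => s1.ne_zero (Subtype.ext e0))).1 e').symm
  obtain ⟨v3, p3, r3, u3, h3⟩ := (nodeB H).move h2 hactB a.2⁻¹
  obtain ⟨v4, p4, r4, u4, h4⟩ := (nodeA H).exists_dec h3.toRep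
  have ha3 : a * (nodeA H).co (t1 * a.1⁻¹) * (nodeB H).co a.2⁻¹ = (t1, 1) := by
    refine Prod.ext ?_ ?_
    · show a.1 * (t1 * a.1⁻¹) * 1 = t1
      rw [mul_one, mul_comm t1, mul_inv_cancel_left]
    · show a.2 * 1 * a.2⁻¹ = 1
      rw [mul_one, mul_inv_cancel]
  rw [ha3] at h4
  have hactA : (nodeA H).Active p4 ((t1, 1) : Kˣ × (fixF φ)ˣ) r4 := by
    refine Or.inr (Or.inr fun e => ht1 ?_)
    have e' : (chiA φ (t1, 1) : K) = 1 := by rw [show chiA φ (t1, 1) = 1 from e]; simp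
    simpa [coe_chiA] using e'
  obtain ⟨v5, p5, r5, u5, h5⟩ := (nodeA H).move h4 hactA t1⁻¹
  obtain ⟨hv, hu, hc⟩ := h5.toRep
  refine ⟨_, hv, _, hu, ?_⟩
  have e1 : ((t1, 1) : Kˣ × (fixF φ)ˣ) * (nodeA H).co t1⁻¹ = 1 := by
    refine Prod.ext ?_ ?_
    · show t1 * t1⁻¹ = 1
      rw [mul_inv_cancel]
    · show (1 : (fixF φ)ˣ) * 1 = 1
      rw [mul_one]
  rwa [e1, map_one, mul_one] at hc

/-- Every nontrivial element is a product of two conjugates of a regular diagonal element. -/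
theorem good_regular (hq4 : 4 ≤ q) (p : ℕ) [Fact p.Prime] (hp : p ∣ q) :
    ∃ x : ↥(twistedD4 K q), ¬ p ∣ orderOf x ∧ ∀ g, g ≠ 1 → Good x g := by
  classical
  obtain ⟨g0, hg0⟩ : ∃ g : Kˣ, orderOf g = q ^ 3 - 1 := by
    obtain ⟨g, hg⟩ := IsCyclic.exists_ofOrder_eq_natCard (α := Kˣ)
    exact ⟨g, by rw [hg, Nat.card_units, Nat.card_eq_fintype_card, H.hK]⟩
  obtain ⟨m, rfl⟩ : ∃ m, q = m + 1 := ⟨q - 1, by omega⟩
  have hcube : (m + 1) ^ 3 - 1 = m * ((m + 1) ^ 2 + (m + 1) + 1) := by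
    rw [show (m + 1) ^ 3 = m * ((m + 1) ^ 2 + (m + 1) + 1) + 1 by ring]; rfl
  set t0 : Kˣ := g0 ^ m with ht0
  have hN : nrm3 φ (t0 : K) = 1 := by
    rw [nrm3, H.hφ, H.hφ, ← pow_mul, ← pow_succ', ← pow_add, ← Units.val_pow_eq_pow_val, ht0, ← pow_mul,
      show m * (m + 1 + 1 + (m + 1) * (m + 1)) = (m + 1) ^ 3 - 1 by rw [hcube]; ring, ← hg0, pow_orderOf_eq_one,
      Units.val_one]
  have hF : φ ((t0 : K) ^ 2) ≠ (t0 : K) ^ 2 := by
    intro e
    rw [H.hφ, pow_succ, mul_eq_right₀ (pow_ne_zero _ t0.ne_zero), ← pow_mul, ← Units.val_pow_eq_pow_val,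
      Units.val_eq_one, ht0, ← pow_mul] at e
    have hd := orderOf_dvd_of_pow_eq_one e
    rw [hg0, hcube] at hd
    have hle := Nat.le_of_dvd (Nat.mul_pos (by omega) (Nat.mul_pos two_pos (by omega))) hd
    have h2m : m * (2 * m) < m * ((m + 1) ^ 2 + (m + 1) + 1) :=
      Nat.mul_lt_mul_of_pos_left (by nlinarith) (by omega)
    omega
  have hT1 : (t0 : K) ^ 2 ≠ 1 := fun e => hF (by rw [e, map_one])
  obtain ⟨s0, hs0⟩ : ∃ s : (fixF φ)ˣ, ((s : fixF φ) : K) ^ 2 ≠ 1 := by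
    by_contra hcon
    push Not at hcon
    have := Fintype.ofFinite (fixF φ)
    have hle : (Finset.univ : Finset ↥(fixF φ)).image (Subtype.val : ↥(fixF φ) → K) ⊆ {0, 1, -1} := by
      intro y hy
      obtain ⟨z, -, rfl⟩ := Finset.mem_image.1 hy
      by_cases hz : z = 0
      · simp [hz]
      · rcases sq_eq_one_iff.1 (hcon (Units.mk0 z hz)) with e | e <;> simp at e <;> simp [e]
    have h1 := (Finset.card_le_card hle).trans Finset.card_le_three
    rw [Finset.card_image_of_injective _ Subtype.val_injective, Finset.card_univ, Fintype.card_eq_nat_card,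
      H.card_k] at h1
    omega
  have hs1 : ((s0 : fixF φ) : K) ≠ 1 := fun e => hs0 (by rw [e, one_pow])
  set a : Kˣ × (fixF φ)ˣ := (t0, s0) with ha
  set x := tor H a with hx
  have hval : ∀ r ∈ posL, (torusFun chevD4 (par φ a) r : K) = 1 → r ∈ ([] : List ℕ) := by
    intro r hr hv
    exfalso
    rcases par_values H a r hr hv with ⟨-, e⟩ | ⟨-, e⟩ | ⟨-, e⟩ | ⟨-, e⟩ | ⟨-, e⟩ | ⟨-, e⟩
    · rw [coe_chiA, div_eq_one_iff_eq (fun e0 => s0.ne_zero (Subtype.ext e0))] at e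
      exact hF (by rw [show ((t0 : K) ^ 2) = _ from e, fixF_coe])
    · rw [coe_chiB, show nrm3 φ ((a.1 : Kˣ) : K) = 1 from hN, div_one] at e
      exact hs0 e
    · change (t0 : K) ^ 2 * _ = nrm3 φ (t0 : K) at e
      rw [hN] at e
      exact hF (by rw [eq_inv_of_mul_eq_one_left e, map_inv₀, fixF_coe])
    · change nrm3 φ (t0 : K) = _ at e
      exact hT1 (e.symm.trans hN)
    · change nrm3 φ (t0 : K) = _ at e
      exact hs1 (e.symm.trans hN)
    · exact hs1 e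
  have hfixP : ∀ u ∈ sub K (m + 1) posL, x * u * x⁻¹ = u → u = 1 := by
    intro u hu e
    have h := fixed_by_torus (L := posL) (by decide) (by decide +kernel) hval
      (show (u : GL chevD4.Idx K) ∈ rg K posL from hu) (congrArg Subtype.val e)
    change (u : GL chevD4.Idx K) ∈ Schur.TwistTwo.rg (K := K) [] at h
    rw [rg_nil, Subgroup.mem_bot] at h
    exact Subtype.ext h
  have hinv : w0g H * x * (w0g H)⁻¹ = x⁻¹ := by rw [hx, w0g_tor, map_inv]
  have hfixM : ∀ v ∈ sub K (m + 1) (opp posL), x * v * x⁻¹ = v → v = 1 := by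
    intro v hv e
    have hv' := w0g_conj_neg H hv
    have e' : x⁻¹ * (w0g H * v * (w0g H)⁻¹) * x⁻¹⁻¹ = w0g H * v * (w0g H)⁻¹ := by
      rw [← hinv]
      calc _ = w0g H * (x * v * x⁻¹) * (w0g H)⁻¹ := by group
        _ = _ := by rw [e]
    have h1 := hfixP _ hv' (by
      calc x * (w0g H * v * (w0g H)⁻¹) * x⁻¹ =
          x * (x⁻¹ * (w0g H * v * (w0g H)⁻¹) * x⁻¹⁻¹) * x⁻¹ := by rw [e']
        _ = _ := by group)
    simpa using h1
  refine ⟨x, fun hd => ?_, fun g hg => ?_⟩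
  · have hpow : x ^ ((m + 1) ^ 3 - 1) = 1 := by
      rw [hx, ← map_pow]
      have hone : ∀ b : Kˣ, b ^ ((m + 1) ^ 3 - 1) = 1 := fun b => by
        rw [← H.hK, ← Fintype.card_units]; exact pow_card_eq_one
      have : a ^ ((m + 1) ^ 3 - 1) = 1 := by
        refine Prod.ext (hone _) ?_
        refine Units.map_injective (f := (fixF φ).subtype.toMonoidHom) Subtype.val_injective ?_
        show Units.map _ (a.2 ^ _) = Units.map _ 1
        rw [map_pow, hone, map_one]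
      rw [this, map_one]
    have hdvd := hd.trans (orderOf_dvd_of_pow_eq_one hpow)
    have hp3 : p ∣ (m + 1) ^ 3 := dvd_pow hp (by norm_num)
    have hpos : 1 ≤ (m + 1) ^ 3 := Nat.one_le_pow _ _ (by omega)
    have h1 := Nat.dvd_sub hp3 hdvd
    rw [show (m + 1) ^ 3 - ((m + 1) ^ 3 - 1) = 1 by omega] at h1
    exact (Fact.out : p.Prime).not_dvd_one h1
  · obtain ⟨v, hv, u, hu, hc⟩ := exists_rep_one H (by omega) hg
    refine Good.of_cj hc ?_
    have hv' : Cj x (v * x) := (absorb (fun h hh => tor_sub H (by decide +kernel) a hh) hfixM hv).1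
    have hu' : Cj x⁻¹ (x⁻¹ * u) := by
      refine (absorb (fun h hh => ?_) (fun h hh e => hfixP h hh ?_) hu).2
      · have := tor_sub H (L := posL) (by decide +kernel) a⁻¹ hh
        rwa [map_inv] at this
      · calc x * h * x⁻¹ = x * (x⁻¹ * h * x⁻¹⁻¹) * x⁻¹ := by rw [e]
          _ = h := by group
    have hxx : Cj x x⁻¹ := ⟨w0g H, hinv.symm⟩
    have h := Good.mk hv' (hxx.trans hu')
    rwa [show v * x * (x⁻¹ * u) = v * u by group] at h

end Cfsg.Agent.Lib.ThompsonD4
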