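import Cfsg.Agent.Lib.ThompsonD4.Weyl
import Cfsg.Agent.Lib.ThompsonD4.Regular

/-!
For `q = 3` every nontrivial element of `³D₄(q)` is a product of two conjugates of an element of order `8` of the
Levi subgroup of the long root (helper27).
-/

set_option autoImplicit false
set_option maxRecDepth 4000

namespace Cfsg.Agent.Lib.ThompsonD4

open Cfsg.Lie Cfsg.Agent.Lib.Chev
open Cfsg.Agent.Lib.Chev.RankOneData (upper lower wElt sl_ext mul_entry upper_entries lower_entries wElt_entries)
open Cfsg.Agent.Lib.TrialityInv (X)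
open Cfsg.Agent.Lib.D4Deg41 (Hyp fixF mem_fixF fixF_coe)
open Cfsg.Agent.Lib.Schur.TwistD4P (nrm3)
open Cfsg.Agent.Lib.Schur.TwistTwo (chkLt chkPair rg_nil comm_mem)
open scoped Matrix MatrixGroups commutatorElement

namespace Q3

instance fact_three : Fact (Nat.Prime 3) := ⟨Nat.prime_three⟩

/-- The twist by the diagonal matrix of determinant minus one. -/
def tw : SL(2, ZMod 3) →* SL(2, ZMod 3) := sc (-1)

/-- The base element. -/
def base : SL(2, ZMod 3) := ⟨!![0, 1; -1, 1], by decide⟩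

/-- Elements of order `8` of `GL₂(3)`, divided by the diagonal matrix. -/
def Oct (Q : SL(2, ZMod 3)) : Prop := Q 0 0 ≠ Q 1 1

instance : DecidablePred Oct := fun Q => by unfold Oct; infer_instance

/-- An inverse of `wElt`. -/
def wInv : SL(2, ZMod 3) := wElt⁻¹

theorem oct_base : Oct base := by decide +kernel

theorem oct_conj : ∀ Q, Oct Q → ∃ k, Q = k * base * tw k⁻¹ ∨ Q = k * (wElt * base * wElt⁻¹) * tw k⁻¹ := by
  decide +kernel

theorem oct_factor : ∀ M : SL(2, ZMod 3), ∃ Q, Oct Q ∧ Oct (tw (Q⁻¹ * M)) := by decide +kernel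

theorem oct_sq : ∀ Q, Oct Q → Q * tw Q * (Q * tw Q) = dia (-1) := by decide +kernel

theorem oct_weyl : ∀ Q, Oct Q → Oct (wElt * Q * wElt⁻¹) := by decide +kernel

theorem tw_tw : ∀ Q, tw (tw Q) = Q := by decide +kernel

end Q3

variable {K : Type*} [Field K] [Fintype K] {φ : K ≃+* K} (H : Hyp K 3 φ)
include H

theorem charP_three : CharP (fixF φ) 3 := by
  haveI : CharP K 3 := charP_of_card_eq_prime_pow (p := 3) H.hK
  exact (fixF φ).subtype.charP Subtype.val_injective 3

/-- The map from the prime field. -/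
noncomputable def iota : ZMod 3 →+* fixF φ :=
  letI := charP_three H
  ZMod.castHom dvd_rfl (fixF φ)

theorem iota_surjective : Function.Surjective (iota H) := by
  letI := charP_three H
  have hi : Function.Injective (iota H) := (iota H).injective
  exact ((Nat.bijective_iff_injective_and_card _).2 ⟨hi, by rw [Nat.card_zmod, H.card_k]⟩).2

/-- The embedding of `SL₂(3)`. -/
noncomputable def sl3 : SL(2, ZMod 3) →* ↥(twistedD4 K 3) :=
  (phiB H).comp (Matrix.SpecialLinearGroup.map (iota H))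

theorem sl3_surjective (m : SL(2, fixF φ)) : ∃ M, phiB H m = sl3 H M := by
  choose f hf using iota_surjective H
  have hd : (Matrix.of fun i j => f (m i j)).det = 1 := by
    refine (iota H).injective ?_
    rw [(iota H).map_det, map_one]
    refine (congrArg Matrix.det ?_).trans m.2
    ext i j
    simp [hf]
  refine ⟨⟨_, hd⟩, congrArg (phiB H) (Matrix.SpecialLinearGroup.ext _ _ fun i j => ?_)⟩
  exact (hf _).symm

/-- The involution of the torus. -/
noncomputable def tau : ↥(twistedD4 K 3) := tor H (-1, 1)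

theorem tau_sq : tau H * tau H = 1 := by
  rw [tau, ← map_mul, Prod.mk_mul_mk]
  simp [Prod.mk_one_one]

theorem tau_sl3 (Q : SL(2, ZMod 3)) : tau H * sl3 H Q * (tau H)⁻¹ = sl3 H (Q3.tw Q) := by
  have e : chiB H ((-1, 1) : Kˣ × (fixF φ)ˣ) = Units.map (iota H).toMonoidHom (-1) :=
    Units.ext (Subtype.ext (by rw [coe_chiB]; simp [nrm3]))
  rw [tau, sl3, MonoidHom.comp_apply, tor_conj_phiB, Q3.tw, MonoidHom.comp_apply, map_sc, e]

/-- The elements of order `8`. -/
noncomputable def oct (Q : SL(2, ZMod 3)) : ↥(twistedD4 K 3) := sl3 H Q * tau H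

theorem oct_mul (Q R : SL(2, ZMod 3)) : oct H Q * oct H R = sl3 H (Q * Q3.tw R) := by
  rw [map_mul, ← tau_sl3, oct, oct]
  calc sl3 H Q * tau H * (sl3 H R * tau H) = sl3 H Q * (tau H * sl3 H R * (tau H)⁻¹) * (tau H * tau H) := by group
    _ = _ := by rw [tau_sq, mul_one]

theorem oct_fourth {Q : SL(2, ZMod 3)} (hQ : Q3.Oct Q) : oct H Q ^ 4 = tor H (1, -1) := by
  rw [show oct H Q ^ 4 = oct H Q * oct H Q * (oct H Q * oct H Q) by simp only [pow_succ, pow_zero, one_mul]; group,
    oct_mul, ← map_mul, Q3.oct_sq Q hQ, sl3, MonoidHom.comp_apply, map_dia, phiB_dia]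
  congr 2
  ext
  simp

theorem oct_weyl' (Q : SL(2, ZMod 3)) : w0g H * oct H Q * (w0g H)⁻¹ = oct H (wElt * Q * wElt⁻¹) := by
  have ht : w0g H * tau H * (w0g H)⁻¹ = tau H := by
    rw [tau, w0g_tor]
    congr 1
  calc w0g H * oct H Q * (w0g H)⁻¹ = (w0g H * sl3 H Q * (w0g H)⁻¹) * (w0g H * tau H * (w0g H)⁻¹) := by
        rw [oct]; group
    _ = _ := by
      rw [ht, oct, sl3, MonoidHom.comp_apply, MonoidHom.comp_apply, w0g_phiB]
      simp only [map_mul, map_inv, map_wElt]

theorem oct_cj {Q : SL(2, ZMod 3)} (hQ : Q3.Oct Q) : Cj (oct H Q3.base) (oct H Q) := by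
  have hk : ∀ k R : SL(2, ZMod 3), sl3 H k * oct H R * (sl3 H k)⁻¹ = oct H (k * R * Q3.tw k⁻¹) := by
    intro k R
    calc sl3 H k * oct H R * (sl3 H k)⁻¹ =
        sl3 H k * sl3 H R * (tau H * sl3 H k⁻¹ * (tau H)⁻¹) * tau H := by rw [oct, map_inv]; group
      _ = _ := by rw [tau_sl3, oct, map_mul, map_mul]
  rcases Q3.oct_conj Q hQ with ⟨k, rfl | rfl⟩
  · exact ⟨sl3 H k, (hk _ _).symm⟩
  · exact Cj.trans ⟨w0g H, (oct_weyl' H _).symm⟩ ⟨sl3 H k, (hk _ _).symm⟩

theorem oct_sub (Q : SL(2, ZMod 3)) {L : List ℕ}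
    (hL : (chkLt L && chkPair orbB L L && chkPair (opp orbB) L L) = true) {h : ↥(twistedD4 K 3)}
    (hh : h ∈ sub K 3 L) : oct H Q * h * (oct H Q)⁻¹ ∈ sub K 3 L := by
  have hL1 : chkLt L = true := by simp only [Bool.and_eq_true] at hL; exact hL.1.1
  rw [show oct H Q * h * (oct H Q)⁻¹ = sl3 H Q * (tau H * h * (tau H)⁻¹) * (sl3 H Q)⁻¹ by rw [oct]; group]
  exact phiB_sub H hL _ (tor_sub H hL1 _ hh)

theorem oct_fix {Q : SL(2, ZMod 3)} (hQ : Q3.Oct Q) {h : ↥(twistedD4 K 3)} (hh : h ∈ sub K 3 radB)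
    (e : oct H Q * h * (oct H Q)⁻¹ = h) : h = 1 := by
  have h2 : (2 : K) ≠ 0 := by
    haveI : CharP K 3 := charP_of_card_eq_prime_pow (p := 3) H.hK
    intro e2
    have := (CharP.cast_eq_zero_iff K 3 2).1 (by simpa using e2)
    omega
  have hne : (-1 : K) ≠ 1 := fun e1 => h2 (by linear_combination -e1)
  have e4 : tor H (1, -1) * h * (tor H (1, -1))⁻¹ = h := by
    rw [← oct_fourth H hQ]
    have hc : Commute (oct H Q) h := mul_inv_eq_iff_eq_mul.1 e
    rw [(hc.pow_left 4).eq, mul_inv_cancel_right]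
  have hd := fixed_by_torus (L := radB) (N := [17, 20, 21]) (by decide) (by decide +kernel) (c := par φ (1, -1))
    (fun r hr hv => by
      have hr' : r ∈ posL := by simp only [List.mem_cons, List.not_mem_nil, or_false] at hr ⊢; omega
      rcases par_values H _ r hr' hv with ⟨-, e1⟩ | ⟨rfl, -⟩ | ⟨-, e1⟩ | ⟨h1, -⟩ | ⟨-, e1⟩ | ⟨-, e1⟩
      · simp [coe_chiA] at e1
        exact absurd e1 hne
      · simp at hr
      · simp [nrm3] at e1
        exact absurd e1 hne
      · exact h1
      · simp [nrm3] at e1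
        exact absurd e1.symm hne
      · simp at e1
        exact absurd e1 hne)
    (show (h : GL chevD4.Idx K) ∈ rg K radB from hh) (congrArg Subtype.val e4)
  have hcomm : ∀ m, Commute (psiB φ m) (h : GL chevD4.Idx K) := by
    intro m
    have key : psiB φ m ∈ Subgroup.centralizer ({(h : GL chevD4.Idx K)} : Set (GL chevD4.Idx K)) := by
      refine sl2_le _ _ (fun t => ?_) (fun t => ?_) m <;> rw [Subgroup.mem_centralizer_singleton_iff]
      · rw [psiB_upper]
        have := comm_mem (A := [14]) (B := [17, 20, 21]) (N := []) (by decide) (by decide) (by decide)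
          (by decide +kernel) (by decide +kernel) (by decide +kernel) (X_mem_rg (K := K) (r := 14) (by simp) (t : K)) hd
        rw [rg_nil, Subgroup.mem_bot, commutatorElement_eq_one_iff_mul_comm] at this
        exact this
      · rw [psiB_lower]
        have := comm_mem (A := [9]) (B := [17, 20, 21]) (N := []) (by decide) (by decide) (by decide)
          (by decide +kernel) (by decide +kernel) (by decide +kernel) (X_mem_rg (K := K) (r := 9) (by simp) (t : K)) hd
        rw [rg_nil, Subgroup.mem_bot, commutatorElement_eq_one_iff_mul_comm] at this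
        exact this
    exact Subgroup.mem_centralizer_singleton_iff.1 key
  have et : tau H * h * (tau H)⁻¹ = h := by
    have hc : Commute (sl3 H Q) h := Subtype.ext (hcomm _).eq
    calc tau H * h * (tau H)⁻¹ = (sl3 H Q)⁻¹ * (oct H Q * h * (oct H Q)⁻¹) * sl3 H Q := by rw [oct]; group
      _ = _ := by rw [e, mul_assoc, ← hc.eq, inv_mul_cancel_left]
  have hnil := fixed_by_torus (L := [17, 20, 21]) (N := []) (by decide) (by decide +kernel) (c := par φ (-1, 1))
    (fun r hr hv => by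
      exfalso
      have hr' : r ∈ posL := by simp only [List.mem_cons, List.not_mem_nil, or_false] at hr ⊢; omega
      rcases par_values H _ r hr' hv with ⟨h1, -⟩ | ⟨h1, -⟩ | ⟨h1, -⟩ | ⟨-, e1⟩ | ⟨h1, -⟩ | ⟨h1, -⟩
      case inr.inr.inr.inl =>
        simp [nrm3] at e1
        exact hne e1
      all_goals (simp only [List.mem_cons, List.not_mem_nil, or_false] at hr h1; omega))
    hd (congrArg Subtype.val et)
  change (h : GL chevD4.Idx K) ∈ Schur.TwistTwo.rg (K := K) [] at hnil
  rw [rg_nil, Subgroup.mem_bot] at hnil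
  exact Subtype.ext hnil

theorem oct_fix_neg {Q : SL(2, ZMod 3)} (hQ : Q3.Oct Q) {h : ↥(twistedD4 K 3)} (hh : h ∈ sub K 3 (opp radB))
    (e : oct H Q * h * (oct H Q)⁻¹ = h) : h = 1 :=
  fix_transport H (by decide +kernel) (opp_opp (by decide +kernel)) (fun u hu e' => by
    rw [oct_weyl'] at e'
    exact oct_fix H (Q3.oct_weyl Q hQ) hu e') hh e

/-- Every nontrivial element is a product of two conjugates of an element of order `8`. -/
theorem good_three (p : ℕ) [Fact p.Prime] (hp : p ∣ 3) :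
    ∃ x : ↥(twistedD4 K 3), ¬ p ∣ orderOf x ∧ ∀ g, g ≠ 1 → Good x g := by
  refine ⟨oct H Q3.base, fun hd => ?_, fun g hg => ?_⟩
  · have h8 : oct H Q3.base ^ 8 = 1 := by
      rw [show 8 = 4 * 2 by norm_num, pow_mul, oct_fourth H Q3.oct_base, sq, ← map_mul, Prod.mk_mul_mk]
      simp [Prod.mk_one_one]
    have h3 : p = 3 := (Nat.prime_dvd_prime_iff_eq Fact.out Nat.prime_three).1 hp
    have := hd.trans (orderOf_dvd_of_pow_eq_one h8)
    subst h3
    omega
  · obtain ⟨v, pa, a, ra, u, h, hact⟩ := exists_rep_fst H le_rfl hg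
    obtain ⟨v1, p1, r1, u1, h1⟩ := (nodeA H).move h hact a.1⁻¹
    obtain ⟨v2, p2, r2, u2, h2⟩ := (nodeB H).exists_dec h1.toRep
    obtain ⟨hv, hu, hc⟩ := h2
    have ea : a * (nodeA H).co a.1⁻¹ = ((1, a.2) : Kˣ × (fixF φ)ˣ) := by
      refine Prod.ext ?_ ?_
      · show a.1 * a.1⁻¹ = 1
        rw [mul_inv_cancel]
      · show a.2 * 1 = a.2
        rw [mul_one]
    obtain ⟨M, hM⟩ := sl3_surjective H (lower p2 * dia a.2 * upper r2)
    obtain ⟨Q, hQ, hQ'⟩ := Q3.oct_factor M
    have hmid : v2 * (nodeB H).phi (lower p2) * tor H (a * (nodeA H).co a.1⁻¹) *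
        ((nodeB H).phi (upper r2) * u2) = v2 * oct H Q * (oct H (Q3.tw (Q⁻¹ * M)) * u2) := by
      rw [ea, ← phiB_dia, show v2 * oct H Q * (oct H (Q3.tw (Q⁻¹ * M)) * u2) =
        v2 * (oct H Q * oct H (Q3.tw (Q⁻¹ * M))) * u2 by group, oct_mul, Q3.tw_tw, mul_inv_cancel_left, ← hM,
        map_mul, map_mul]
      show v2 * phiB H (lower p2) * _ * (phiB H (upper r2) * u2) = _
      group
    refine Good.of_cj hc ?_
    rw [hmid]
    refine Good.mk ((oct_cj H hQ).trans ?_) ((oct_cj H hQ').trans ?_)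
    · exact (absorb (fun x hx => oct_sub H Q (by decide +kernel) hx) (fun x hx e => oct_fix_neg H hQ hx e) hv).1
    · exact (absorb (fun x hx => oct_sub H _ (by decide +kernel) hx) (fun x hx e => oct_fix H hQ' hx e) hu).2

end Cfsg.Agent.Lib.ThompsonD4
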