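import Cfsg.Agent.Lib.ThompsonD4.Two
import Cfsg.Agent.Lib.ThompsonD4.Three

/-!
A semisimple class of `³D₄(q)` whose square covers the nontrivial elements (helper27).
-/

set_option autoImplicit false

namespace Cfsg.Agent.Lib.ThompsonD4

open Cfsg.Lie Cfsg.Agent.Lib.Twisted.Core
open Cfsg.Agent.Lib.D4Deg41 (Hyp)

theorem dvd_of_card {K : Type*} [Field K] [Fintype K] {p q : ℕ} [Fact p.Prime] [CharP K p]
    (hK : Fintype.card K = q ^ 3) : p ∣ q := by
  have h : (Fintype.card K : K) = 0 := Nat.cast_card_eq_zero K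
  rw [CharP.cast_eq_zero_iff K p, hK] at h
  exact (Fact.out : p.Prime).dvd_of_dvd_pow h

/-- A semisimple class whose square covers the nontrivial elements. -/
theorem square_covers {K : Type*} [Field K] [Fintype K] (p : ℕ) [Fact p.Prime] [CharP K p] (q : ℕ)
    (hq : IsPrimePow q) (hK : Fintype.card K = q ^ 3) :
    ∃ x : ↥(twistedD4 K q), ¬ p ∣ orderOf x ∧ ∀ g, g ≠ 1 → Good x g := by
  obtain ⟨φ, hφ, -⟩ := d4_powAut hq hK
  have hp := dvd_of_card (p := p) hK
  have H : Hyp K q φ := ⟨hq, hK, hφ⟩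
  rcases lt_or_ge q 4 with hlt | hge
  · have h2 : 2 ≤ q := hq.two_le
    obtain rfl | rfl : q = 2 ∨ q = 3 := by omega
    exacts [good_two H p hp, good_three H p hp]
  · exact good_regular H hge p hp

end Cfsg.Agent.Lib.ThompsonD4
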