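import Cfsg.Agent.Lib.ThompsonD4.Basic

/-!
Gauss decompositions up to conjugacy in `³D₄(q)`, and its longest element (helper27).
-/

set_option autoImplicit false
set_option maxRecDepth 4000

namespace Cfsg.Agent.Lib.ThompsonD4

open Cfsg.Lie Cfsg.Agent.Lib.Chev Cfsg.Agent.Lib.Twisted Cfsg.Agent.Lib.Twisted.Core
open Cfsg.Agent.Lib.Chev.RankOneData (upper lower wElt sl_ext mul_entry upper_entries lower_entries wElt_entries)
open Cfsg.Agent.Lib.TrialityInv (X X_eq_xGL X_mem_group)
open Cfsg.Agent.Lib.TrialityTorus (phi phi_wElt)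
open Cfsg.Agent.Lib.D4Deg41 (Hyp fixF mem_fixF fixF_coe)
open Cfsg.Agent.Lib.Schur.TwistD4P (nrm3 eq_of_sq_div)
open Cfsg.Agent.Lib.Schur.TwistTwo (chkLt chkPair lt_of_chk)
open scoped Matrix MatrixGroups

variable {K : Type*} [Field K] {q : ℕ} {φ : K ≃+* K}

theorem Node.weyl {G : Type*} [Group G] {A : Type*} [CommGroup A] {k : Type*} [Field k] {T : A →* G}
    {Um Up : Subgroup G} (N : Node T Um Up k) (a : A) :
    N.phi wElt * T a * (N.phi wElt)⁻¹ = T (a * (N.co (N.chi a))⁻¹) := by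
  have e : N.phi (wElt * sc (N.chi a) wElt⁻¹) * T a = N.phi wElt * T a * (N.phi wElt)⁻¹ := by
    rw [map_mul, ← N.conjT, map_inv]; group
  have e2 : (wElt : SL(2, k)) * sc (N.chi a) wElt⁻¹ = dia (N.chi a)⁻¹ := by
    have hw : (wElt : SL(2, k))⁻¹ = upper (-1) * lower 1 * upper (-1) := by
      refine inv_eq_of_mul_eq_one_right (sl_ext ?_ ?_ ?_ ?_) <;>
        simp [mul_entry, upper_entries, lower_entries, wElt_entries]
    rw [hw, map_mul, map_mul, sc_upper, sc_lower]
    refine sl_ext ?_ ?_ ?_ ?_ <;>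
      simp [mul_entry, upper_entries, lower_entries, wElt_entries, dia_entries, Units.val_inv_eq_inv_val]
  rw [← e, e2, N.phi_dia, map_inv, ← map_mul, mul_comm]

variable [Fintype K] (H : Hyp K q φ)
include H

/-- The longest element. -/
noncomputable def w0g : ↥(twistedD4 K q) := (phiA H wElt * phiB H wElt) ^ 3

theorem coe_w0g : (w0g H : GL chevD4.Idx K) = W0 K := by
  have ea : (phiA H wElt : GL chevD4.Idx K) =
      nS rootedD4.toChecked K 0 * (nS rootedD4.toChecked K 2 * nS rootedD4.toChecked K 3) := by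
    rw [coe_phiA, psiA_apply, mφ, map_wElt, map_wElt, phi_wElt, phi_wElt, phi_wElt]
  have eb : (phiB H wElt : GL chevD4.Idx K) = nS rootedD4.toChecked K 1 := by
    rw [coe_phiB, psiB, MonoidHom.comp_apply, map_wElt, phi_wElt]
  simp only [w0g, W0, w0W, pow_succ, pow_zero, one_mul, Subgroup.coe_mul, ea, eb, List.map_cons, List.map_nil,
    List.prod_cons, List.prod_nil, mul_one, mul_assoc]

theorem w0g_sub {L : List ℕ} (h : chkLt L = true) {g : ↥(twistedD4 K q)} (hg : g ∈ sub K q L) :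
    w0g H * g * (w0g H)⁻¹ ∈ sub K q (opp L) ∧ (w0g H)⁻¹ * g * w0g H ∈ sub K q (opp L) := by
  obtain ⟨h1, h2⟩ := W0_rg h (show (g : GL chevD4.Idx K) ∈ rg K L from hg)
  constructor <;> rw [Subgroup.mem_subgroupOf, Subgroup.coe_mul, Subgroup.coe_mul, Subgroup.coe_inv, coe_w0g]
  exacts [h1, h2]

omit H in
/-- The sign of the longest element on the short orbit. -/
def sA : ℤ := sgn w0W 5

omit H in
/-- The sign of the longest element on the long simple root. -/
def sB : ℤ := sgn w0W 9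

theorem w0g_phiA_upper (r : K) :
    (w0g H)⁻¹ * phiA H (upper r) * w0g H = phiA H (lower ((sA : K) * r)) := by
  refine Subtype.ext ?_
  obtain ⟨-, e10, e11, -, -, -⟩ := w0_data
  simp only [Subgroup.coe_mul, Subgroup.coe_inv, coe_w0g, coe_phiA, psiA_upper, psiA_lower, map_mul, map_intCast]
  calc (W0 K)⁻¹ * (X 18 r * (X 13 (φ r) * X 12 (φ (φ r)))) * W0 K
      = ((W0 K)⁻¹ * X 18 r * W0 K) *
        (((W0 K)⁻¹ * X 13 (φ r) * W0 K) * ((W0 K)⁻¹ * X 12 (φ (φ r)) * W0 K)) := by group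
    _ = _ := by
      rw [W0_X' (by norm_num), W0_X' (by norm_num), W0_X' (by norm_num), show ng chevD4 18 = 5 by decide +kernel,
        show ng chevD4 13 = 10 by decide +kernel, show ng chevD4 12 = 11 by decide +kernel, ← e10, ← e11]
      rfl

theorem w0g_phiB_upper (r : fixF φ) :
    (w0g H)⁻¹ * phiB H (upper r) * w0g H = phiB H (lower ((sB : fixF φ) * r)) := by
  refine Subtype.ext ?_
  simp only [Subgroup.coe_mul, Subgroup.coe_inv, coe_w0g, coe_phiB, psiB_upper, psiB_lower]
  rw [W0_X' (by norm_num), show ng chevD4 14 = 9 by decide +kernel]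
  push_cast
  rfl

theorem phiA_sub {L : List ℕ} (h : (chkLt L && chkPair orbA L L && chkPair (opp orbA) L L) = true) (m : SL(2, K))
    {g : ↥(twistedD4 K q)} (hg : g ∈ sub K q L) : phiA H m * g * (phiA H m)⁻¹ ∈ sub K q L :=
  (Subgroup.mem_normalizer_iff.1 (psiA_normalizes h m) _).1 hg

theorem phiB_sub {L : List ℕ} (h : (chkLt L && chkPair orbB L L && chkPair (opp orbB) L L) = true)
    (m : SL(2, fixF φ)) {g : ↥(twistedD4 K q)} (hg : g ∈ sub K q L) : phiB H m * g * (phiB H m)⁻¹ ∈ sub K q L :=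
  (Subgroup.mem_normalizer_iff.1 (psiB_normalizes h m) _).1 hg

theorem tor_sub {L : List ℕ} (h : chkLt L = true) (a : Kˣ × (fixF φ)ˣ) {g : ↥(twistedD4 K q)}
    (hg : g ∈ sub K q L) : tor H a * g * (tor H a)⁻¹ ∈ sub K q L :=
  (Subgroup.mem_normalizer_iff.1 (torus_normalizes h (par φ a)) _).1 hg

/-- The short node. -/
noncomputable def nodeA : Node (tor H) (sub K q (opp posL)) (sub K q posL) K where
  phi := phiA H
  co := MonoidHom.inl Kˣ (fixF φ)ˣ
  chi := chiA φ
  Lp := sub K q radA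
  Lm := sub K q (opp radA)
  phi_dia := phiA_dia H
  conjT := tor_conj_phiA H
  normP m _ hu := phiA_sub H (by decide +kernel) m hu
  normM m _ hv := phiA_sub H (by decide +kernel) m hv
  subP _ hx := rg_mono (by decide) hx
  subM _ hx := rg_mono (by decide +kernel) hx
  memP r := by
    show psiA φ (upper r) ∈ rg K posL
    rw [psiA_upper]
    exact mul_mem (X_mem_rg (by decide) _) (mul_mem (X_mem_rg (by decide) _) (X_mem_rg (by decide) _))
  memM p := by
    show psiA φ (lower p) ∈ rg K (opp posL)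
    rw [psiA_lower]
    exact mul_mem (X_mem_rg (by decide) _) (mul_mem (X_mem_rg (by decide) _) (X_mem_rg (by decide) _))
  splitU _ hu := splitU_A H hu
  splitV v hv := by
    obtain ⟨h1, -⟩ := w0g_sub H (by decide +kernel) hv
    rw [opp_opp (by decide +kernel)] at h1
    obtain ⟨r, u', hu', e⟩ := splitU_A H h1
    obtain ⟨-, h2⟩ := w0g_sub H (L := radA) (by decide +kernel) hu'
    refine ⟨(sA : K) * r, _, phiA_sub H (by decide +kernel) (lower ((sA : K) * r)) h2, ?_⟩
    rw [← w0g_phiA_upper H r]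
    calc v = (w0g H)⁻¹ * (w0g H * v * (w0g H)⁻¹) * w0g H := by group
      _ = _ := by rw [e]; group

/-- The long node. -/
noncomputable def nodeB : Node (tor H) (sub K q (opp posL)) (sub K q posL) (fixF φ) where
  phi := phiB H
  co := MonoidHom.inr Kˣ (fixF φ)ˣ
  chi := chiB H
  Lp := sub K q radB
  Lm := sub K q (opp radB)
  phi_dia := phiB_dia H
  conjT := tor_conj_phiB H
  normP m _ hu := phiB_sub H (by decide +kernel) m hu
  normM m _ hv := phiB_sub H (by decide +kernel) m hv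
  subP _ hx := rg_mono (by decide) hx
  subM _ hx := rg_mono (by decide +kernel) hx
  memP r := by
    show psiB φ (upper r) ∈ rg K posL
    rw [psiB_upper]
    exact X_mem_rg (by decide) _
  memM p := by
    show psiB φ (lower p) ∈ rg K (opp posL)
    rw [psiB_lower]
    exact X_mem_rg (by decide) _
  splitU _ hu := splitU_B H hu
  splitV v hv := by
    obtain ⟨h1, -⟩ := w0g_sub H (by decide +kernel) hv
    rw [opp_opp (by decide +kernel)] at h1
    obtain ⟨r, u', hu', e⟩ := splitU_B H h1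
    obtain ⟨-, h2⟩ := w0g_sub H (L := radB) (by decide +kernel) hu'
    refine ⟨(sB : fixF φ) * r, _, phiB_sub H (by decide +kernel) (lower ((sB : fixF φ) * r)) h2, ?_⟩
    rw [← w0g_phiB_upper H r]
    calc v = (w0g H)⁻¹ * (w0g H * v * (w0g H)⁻¹) * w0g H := by group
      _ = _ := by rw [e]; group

theorem gen_top : Subgroup.closure (Set.range (phiA H) ∪ Set.range (phiB H)) = ⊤ := by
  set S := Subgroup.closure (Set.range (phiA H) ∪ Set.range (phiB H))
  have hA : ∀ m, (phiA H m : GL chevD4.Idx K) ∈ S.map (twistedD4 K q).subtype := fun m =>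
    Subgroup.mem_map_of_mem (twistedD4 K q).subtype
      (show phiA H m ∈ S from Subgroup.subset_closure (Or.inl ⟨m, rfl⟩))
  have hB : ∀ m, (phiB H m : GL chevD4.Idx K) ∈ S.map (twistedD4 K q).subtype := fun m =>
    Subgroup.mem_map_of_mem (twistedD4 K q).subtype
      (show phiB H m ∈ S from Subgroup.subset_closure (Or.inr ⟨m, rfl⟩))
  have hle : twistedD4 K q ≤ S.map (twistedD4 K q).subtype := by
    conv_lhs => rw [twistedD4, ChevalleyDatum.genSubgroup]
    rw [Subgroup.closure_le]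
    rintro g ⟨w, hw, eg⟩
    rcases hw with ⟨t, ht, r, hr, rfl⟩ | ⟨t, rs, hrs, rfl⟩
    · have ht' : φ t = t := by rw [H.hφ, ht]
      simp only [List.mem_cons, List.not_mem_nil, or_false] at hr
      rcases hr with rfl | rfl
      · have e : g = (phiB H (upper ⟨t, mem_fixF.2 ht'⟩) : GL chevD4.Idx K) := Units.ext (by
          rw [eg, coe_phiB, psiB_upper, X_eq_xGL (by decide)]; simp [ChevalleyDatum.wordMat, d4p2, coe_xGL])
        rw [e]; exact hB _
      · have e : g = (phiB H (lower ⟨t, mem_fixF.2 ht'⟩) : GL chevD4.Idx K) := Units.ext (by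
          rw [eg, coe_phiB, psiB_lower, X_eq_xGL (by decide)]; simp [ChevalleyDatum.wordMat, d4m2, coe_xGL])
        rw [e]; exact hB _
    · have e2 : t ^ q ^ 2 = φ (φ t) := by rw [H.hφ, H.hφ, ← pow_mul, sq]
      simp only [List.mem_cons, List.not_mem_nil, or_false] at hrs
      rcases hrs with rfl | rfl
      · have e : g = (phiA H (upper t) : GL chevD4.Idx K) := Units.ext (by
          rw [eg, coe_phiA, psiA_upper, e2, ← H.hφ, X_eq_xGL (by decide), X_eq_xGL (by decide), X_eq_xGL (by decide)]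
          simp [ChevalleyDatum.wordMat, d4p1, d4p3, d4p4, coe_xGL])
        rw [e]; exact hA _
      · have e : g = (phiA H (lower t) : GL chevD4.Idx K) := Units.ext (by
          rw [eg, coe_phiA, psiA_lower, e2, ← H.hφ, X_eq_xGL (by decide), X_eq_xGL (by decide), X_eq_xGL (by decide)]
          simp [ChevalleyDatum.wordMat, d4m1, d4m3, d4m4, coe_xGL])
        rw [e]; exact hA _
  refine eq_top_iff.2 fun g _ => ?_
  obtain ⟨s, hs, e⟩ := hle g.2
  rwa [← (Subtype.ext e : s = g)]

theorem chi_ker (a : Kˣ × (fixF φ)ˣ) (ha : chiA φ a = 1) (hb : chiB H a = 1) : a = 1 := by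
  obtain ⟨t, s⟩ := a
  have h1 : (t : K) ^ 2 / ((s : fixF φ) : K) = 1 := by
    have := congrArg (fun u : Kˣ => (u : K)) ha
    rwa [coe_chiA, Units.val_one] at this
  have h2 : ((s : fixF φ) : K) ^ 2 / nrm3 φ (t : K) = 1 := by
    have := congrArg (fun u : (fixF φ)ˣ => ((u : fixF φ) : K)) hb
    rwa [coe_chiB, Units.val_one, OneMemClass.coe_one] at this
  have hs0 : ((s : fixF φ) : K) ≠ 0 := fun e => s.ne_zero (Subtype.ext e)
  have hn0 : nrm3 φ (t : K) ≠ 0 := by simp [nrm3]
  rw [div_eq_one_iff_eq hs0] at h1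
  rw [div_eq_one_iff_eq hn0, ← h1] at h2
  have hfix : φ (t : K) = t := by
    refine eq_of_sq_div φ H.phi3 t.ne_zero ?_
    rw [div_pow, ← map_pow, h1, fixF_coe, ← h1, div_self (pow_ne_zero 2 t.ne_zero)]
  rw [nrm3, hfix, hfix] at h2
  have ht : (t : K) = 1 := by
    have h3 : (t : K) * (t : K) ^ 3 = 1 * (t : K) ^ 3 := by linear_combination h2
    exact mul_right_cancel₀ (pow_ne_zero 3 t.ne_zero) h3
  refine Prod.ext (Units.ext ht) (Units.ext (Subtype.ext ?_))
  rw [← h1, ht]; simp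

theorem core_pos (w : ↥(twistedD4 K q)) (hw : ∀ x, x * w * x⁻¹ ∈ sub K q posL) : w = 1 := by
  let O := d4Orbits H.hq H.hK φ H.hφ H.phi3
  have hle : ∀ x, x * w * x⁻¹ ∈ ((chevD4.borelSubgroup K ⊓ twistedD4 K q).subgroupOf (twistedD4 K q)) := fun x => by
    refine Subgroup.mem_subgroupOf.2 ⟨?_, (x * w * x⁻¹).2⟩
    rw [ChevalleyDatum.borelSubgroup]
    refine Subgroup.mem_sup_left ?_
    rw [rg_pos]
    exact hw x
  have hbot : ((chevD4.borelSubgroup K ⊓ twistedD4 K q).subgroupOf (twistedD4 K q)).normalCore = ⊥ :=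
    O.system.normalCore_eq_bot O.hasLead
  have hmem : w ∈ ((chevD4.borelSubgroup K ⊓ twistedD4 K q).subgroupOf (twistedD4 K q)).normalCore := fun x => hle x
  exact Subgroup.mem_bot.1 (hbot.le hmem)

theorem w0g_conj_neg {w : ↥(twistedD4 K q)} (hw : w ∈ sub K q (opp posL)) :
    w0g H * w * (w0g H)⁻¹ ∈ sub K q posL := by
  have h := (w0g_sub H (by decide +kernel) hw).1
  rwa [opp_opp (by decide +kernel)] at h

theorem core_neg (w : ↥(twistedD4 K q)) (hw : ∀ x, x * w * x⁻¹ ∈ sub K q (opp posL)) : w = 1 := by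
  have h := core_pos H (w0g H * w * (w0g H)⁻¹) fun x => by
    have := w0g_conj_neg H (hw ((w0g H)⁻¹ * x * w0g H))
    simpa [mul_assoc] using this
  simpa using h

theorem exists_rep' (g : ↥(twistedD4 K q)) :
    ∃ v a u, Rep (tor H) (sub K q (opp posL)) (sub K q posL) g v a u :=
  exists_rep (nodeA H) (nodeB H) (fun a _ hw => tor_sub H (by decide +kernel) a hw)
    (fun a _ hw => tor_sub H (by decide +kernel) a hw) (gen_top H) g

theorem exists_active' {g : ↥(twistedD4 K q)} (hg : g ≠ 1) :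
    (∃ v p a r u, (nodeA H).Dec g v p a r u ∧ (nodeA H).Active p a r) ∨
      ∃ v p a r u, (nodeB H).Dec g v p a r u ∧ (nodeB H).Active p a r :=
  exists_active (nodeA H) (nodeB H) (fun a _ hw => tor_sub H (by decide +kernel) a hw)
    (fun a _ hw => tor_sub H (by decide +kernel) a hw) (gen_top H) (chi_ker H) (core_pos H) (core_neg H) hg

theorem nU_map (s : (fixF φ)ˣ) : nU H (Units.map (fixF φ).subtype.toMonoidHom s) = s ^ 3 := by
  refine Units.ext (Subtype.ext ?_)
  rw [coe_nU]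
  simp [nrm3, fixF_coe]
  ring

/-- The longest element inverts the torus. -/
theorem w0g_tor (a : Kˣ × (fixF φ)ˣ) : w0g H * tor H a * (w0g H)⁻¹ = tor H a⁻¹ := by
  have hA : ∀ b, phiA H wElt * tor H b * (phiA H wElt)⁻¹ = tor H (b * ((nodeA H).co (chiA φ b))⁻¹) :=
    fun b => (nodeA H).weyl b
  have hB : ∀ b, phiB H wElt * tor H b * (phiB H wElt)⁻¹ = tor H (b * ((nodeB H).co (chiB H b))⁻¹) :=
    fun b => (nodeB H).weyl b
  have h1 : ∀ b, (phiA H wElt * phiB H wElt) * tor H b * (phiA H wElt * phiB H wElt)⁻¹ =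
      tor H ((b.1 * (Units.map (fixF φ).subtype.toMonoidHom (nU H b.1 * (b.2)⁻¹)) * (b.1 ^ 2)⁻¹),
        nU H b.1 * (b.2)⁻¹) := by
    intro b
    calc _ = phiA H wElt * (phiB H wElt * tor H b * (phiB H wElt)⁻¹) * (phiA H wElt)⁻¹ := by group
      _ = _ := by
        rw [hB, hA]
        congr 1
        obtain ⟨t, s⟩ := b
        refine Prod.ext ?_ ?_ <;>
          simp [nodeA, nodeB, chiA, chiB, div_eq_mul_inv, mul_inv_rev, sq] <;>
          (apply Units.ext; push_cast; field_simp)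
  obtain ⟨t, s⟩ := a
  have e3 : ∀ b, w0g H * b * (w0g H)⁻¹ = (phiA H wElt * phiB H wElt) * ((phiA H wElt * phiB H wElt) *
      ((phiA H wElt * phiB H wElt) * b * (phiA H wElt * phiB H wElt)⁻¹) * (phiA H wElt * phiB H wElt)⁻¹) *
        (phiA H wElt * phiB H wElt)⁻¹ := fun b => by
    simp only [w0g, pow_succ, pow_zero, one_mul]; group
  rw [e3, h1, h1, h1]
  congr 1
  refine Prod.ext ?_ ?_ <;> simp only [map_mul, map_inv, map_pow, nU_map, Prod.fst_inv, Prod.snd_inv] <;>
    apply Units.ext <;> push_cast <;> field_simp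

end Cfsg.Agent.Lib.ThompsonD4
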