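import Cfsg.Agent.Lib.Schur.TwistD4Two
import Cfsg.Agent.Lib.Schur.TwistD4Layers
import Cfsg.Agent.Lib.TrialityTorus.Member
import Cfsg.Agent.Lib.TrialityInv.Folded
import Cfsg.Agent.Lib.D4Deg41.TorusAct

/-!
Root subgroups of `³D₄(q)` relative to the longest Weyl element and a torus (helper27).
-/

set_option autoImplicit false
set_option maxRecDepth 4000

namespace Cfsg.Agent.Lib.ThompsonD4

open Cfsg.Lie Cfsg.Agent.Lib.Chev Cfsg.Agent.Lib.Twisted Cfsg.Agent.Lib.Twisted.Core
open Cfsg.Agent.Lib.TrialityInv (X X_eq_xGL X_mem_group)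
open Cfsg.Agent.Lib.Schur.TwistTwo (chkLt chkPair of_chkPair xr_normalizes lt_of_chk)
open Cfsg.Agent.Lib.Schur.TwistLift (RootLayers)
open scoped Matrix MatrixGroups

/-- The group generated by the root groups of a list of roots of `D₄`. -/
abbrev rg (K : Type*) [Field K] (L : List ℕ) : Subgroup (GL chevD4.Idx K) := rootGen chevD4 K {r | r ∈ L}

/-- The positive roots. -/
abbrev posL : List ℕ := [12, 13, 14, 15, 16, 17, 18, 19, 20, 21, 22, 23]

/-- The roots of the orbit of the short simple root. -/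
abbrev orbA : List ℕ := [18, 13, 12]

/-- The roots of the orbit of the long simple root. -/
abbrev orbB : List ℕ := [14]

/-- The positive roots outside the orbit of the short simple root. -/
abbrev radA : List ℕ := [14, 15, 16, 17, 19, 20, 21, 22, 23]

/-- The positive roots outside the long simple root. -/
abbrev radB : List ℕ := [12, 13, 15, 16, 17, 18, 19, 20, 21, 22, 23]

/-- The opposite roots. -/
abbrev opp (L : List ℕ) : List ℕ := L.map (ng chevD4)

variable {K : Type*} [Field K]

theorem X_mem_rg {L : List ℕ} {r : ℕ} (h : r ∈ L) (t : K) : X r t ∈ rg K L :=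
  ChevCent.xg_mem_rootGen _ h t

theorem rg_mono {A B : List ℕ} (h : A.all (fun r => decide (r ∈ B)) = true) : rg K A ≤ rg K B :=
  rootGen_mono fun r hr => of_decide_eq_true (List.all_eq_true.1 h r hr)

theorem rg_le_group {L : List ℕ} (h : chkLt L = true) : rg K L ≤ chevD4.group K :=
  rootGen_le_group fun _ hr => lt_of_chk h hr

theorem rg_pos : chevD4.posUnipotent K = rg K posL := by
  rw [rootedD4.toChecked.posUnipotent_eq]
  congr 1
  ext r
  show (12 ≤ r ∧ r < 24) ↔ r ∈ posL
  simp only [List.mem_cons, List.not_mem_nil, or_false]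
  omega

theorem pos_of_chk {L : List ℕ} (h : L.all (fun r => decide (r ∈ posL)) = true) : {r | r ∈ L} ⊆ posSet chevD4 := by
  intro r hr
  have : r ∈ posL := of_decide_eq_true (List.all_eq_true.1 h r hr)
  simp only [List.mem_cons, List.not_mem_nil, or_false] at this
  show 12 ≤ r ∧ r < 24
  omega

theorem closed_of_chk {L : List ℕ} (h : chkPair L L L = true) : ClosedSet chevD4 D4.cert {r | r ∈ L} :=
  fun _ hr _ hs h1 _ c hc => (of_chkPair h hr hs (Ne.symm h1)).2 c hc

theorem mem_norm {A N : List ℕ} (hN : chkLt N = true) (hA : chkLt A = true) (h : chkPair A N N = true)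
    {x : GL chevD4.Idx K} (hx : x ∈ rg K A) : x ∈ Subgroup.normalizer (rg K N : Set (GL chevD4.Idx K)) := by
  refine Subgroup.mem_normalizer_iff.2 fun n => ⟨fun hn => xr_normalizes hN hA h hx hn, fun hn => ?_⟩
  have := xr_normalizes hN hA h (inv_mem hx) hn
  rwa [show x⁻¹ * (x * n * x⁻¹) * x⁻¹⁻¹ = n by group] at this

theorem torus_normalizes {L : List ℕ} (h : chkLt L = true) (c : ℕ → Kˣ) :
    torusHom chevD4 K c ∈ Subgroup.normalizer (rg K L : Set (GL chevD4.Idx K)) :=
  rootedD4.toChecked.torus_le_normalizer (fun _ hr => lt_of_chk h hr) ⟨c, rfl⟩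

theorem torus_X {r : ℕ} (hr : r < 24) (c : ℕ → Kˣ) (t : K) :
    torusHom chevD4 K c * X r t * (torusHom chevD4 K c)⁻¹ = X r ((torusFun chevD4 c r : K) * t) := by
  rw [X_eq_xGL (show r < chevD4.nroots from hr), X_eq_xGL (show r < chevD4.nroots from hr)]
  exact rootedD4.toChecked.conj_x hr t

theorem torusFun_ng (c : ℕ → Kˣ) {r : ℕ} (hr : r < 24) :
    torusFun chevD4 c (ng chevD4 r) = (torusFun chevD4 c r)⁻¹ := by
  have h : ∀ r < 24, ∀ j < 4, chevD4.cartan j (ng chevD4 r) = -chevD4.cartan j r := by decide +kernel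
  simp only [torusFun, ← Finset.prod_inv_distrib, ← zpow_neg]
  exact Finset.prod_congr rfl fun j hj => by rw [h r hr j (Finset.mem_range.1 hj)]

/-- The part of a closed set fixed by a diagonal element. -/
theorem fixed_by_torus {L : List ℕ} (hpos : L.all (fun r => decide (r ∈ posL)) = true)
    (hcl : chkPair L L L = true) {c : ℕ → Kˣ} {N : List ℕ} (hN : ∀ r ∈ L, (torusFun chevD4 c r : K) = 1 → r ∈ N)
    {u : GL chevD4.Idx K} (hu : u ∈ rg K L) (he : torusHom chevD4 K c * u * (torusHom chevD4 K c)⁻¹ = u) :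
    u ∈ rg K N := by
  classical
  have h := rootedD4.toChecked
  set M := chevD4.posRoots.filter fun r => decide (r ∈ L) with hM
  have hMp : ∀ r ∈ M, r ∈ posSet chevD4 := fun r hr => h.mem_posRoots.1 (List.mem_of_mem_filter hr)
  have hset : {r | r ∈ M} = {r | r ∈ L} := by
    ext r
    simp only [hM, Set.mem_setOf_eq, List.mem_filter, decide_eq_true_eq, h.mem_posRoots]
    exact ⟨fun e => e.2, fun e => ⟨pos_of_chk hpos e, e⟩⟩
  obtain ⟨t, -, e⟩ := h.exists_prod (F := K) M (h.posRoots_pairwise.filter _) hMp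
    (hset.symm ▸ closed_of_chk hcl) u (hset.symm ▸ hu)
  let w : List ℕ → (ℕ → K) → GL chevD4.Idx K := fun Lr f => (Lr.map fun r => X r (f r)).prod
  have hw : ∀ (Lr : List ℕ) (f : ℕ → K), (∀ r ∈ Lr, r < chevD4.nroots) →
      (w Lr f : Matrix chevD4.Idx chevD4.Idx K) = chevD4.wordMat K (Lr.map fun r => (r, f r)) := by
    intro Lr f
    induction Lr with
    | nil => intro; simp [w, ChevalleyDatum.wordMat]
    | cons a Lr ih =>
      intro hlt
      have := ih fun r hr => hlt r (List.mem_cons_of_mem _ hr)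
      simp only [w, ChevalleyDatum.wordMat, List.map_cons, List.prod_cons, List.map_map, Units.val_mul] at this ⊢
      rw [this, X_eq_xGL (hlt a List.mem_cons_self), coe_xGL]
  have hlt : ∀ r ∈ M, r < chevD4.nroots := fun r hr => (hMp r hr).2
  have conj : ∀ Lr : List ℕ, (∀ r ∈ Lr, r < chevD4.nroots) → torusHom chevD4 K c * w Lr t * (torusHom chevD4 K c)⁻¹ =
      w Lr (fun r => (torusFun chevD4 c r : K) * t r) := by
    intro Lr
    induction Lr with
    | nil => intro; simp [w]
    | cons a Lr ih =>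
      intro hlt
      have := ih fun r hr => hlt r (List.mem_cons_of_mem _ hr)
      simp only [w, List.map_cons, List.prod_cons] at this ⊢
      rw [← this, ← torus_X (hlt a List.mem_cons_self) c (t a)]
      group
  have hu' : u = w M t := Units.ext (by rw [hw M t hlt, e])
  rw [hu'] at he
  rw [conj M hlt] at he
  have hz := rootedD4.prod_injective (F := K) M (h.posRoots_pairwise.filter _) hMp
    (fun r => (torusFun chevD4 c r : K) * t r) t (by rw [← hw M _ hlt, ← hw M t hlt, he])
  rw [hu']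
  refine list_prod_mem fun x hx => ?_
  obtain ⟨r, hr, rfl⟩ := List.mem_map.1 hx
  by_cases h1 : (torusFun chevD4 c r : K) = 1
  · exact X_mem_rg (hN r (hset.subset hr) h1) _
  · have : t r = 0 := by
      have h3 : ((torusFun chevD4 c r : K) - 1) * t r = 0 := by rw [sub_mul, one_mul, hz r hr, sub_self]
      exact (mul_eq_zero.1 h3).resolve_left (sub_ne_zero.2 h1)
    rw [this, TrialityInv.X_zero]
    exact one_mem _

/-! ### The longest element -/

/-- A word of the longest element. -/
def w0W : List ℕ := [0, 2, 3, 1, 0, 2, 3, 1, 0, 2, 3, 1]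

/-- The sign picked up along a word. -/
def sgn : List ℕ → ℕ → ℤ
  | [], _ => 1
  | i :: L, r => eta D4.cert i (L.foldr (refl D4.cert) r) * sgn L r

theorem sgn_sq (L : List ℕ) (r : ℕ) : sgn L r * sgn L r = 1 := by
  induction L with
  | nil => rfl
  | cons i L ih =>
    rcases eta_cases (C := D4.cert) i (L.foldr (refl D4.cert) r) with h | h <;> simp [sgn, h, ih]

/-- The longest element. -/
noncomputable def W0 (K : Type*) [Field K] : GL chevD4.Idx K := (w0W.map (nS rootedD4.toChecked K)).prod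

theorem w0_data : (∀ r < 24, w0W.foldr (refl D4.cert) r = ng chevD4 r) ∧
    sgn w0W 5 = sgn w0W 10 ∧ sgn w0W 5 = sgn w0W 11 ∧ sgn w0W 18 = sgn w0W 5 ∧ sgn w0W 13 = sgn w0W 5 ∧
    sgn w0W 12 = sgn w0W 5 := by
  decide +kernel

theorem word_X : ∀ (L : List ℕ), (∀ i ∈ L, i < chevD4.rank) → ∀ {r : ℕ}, r < 24 → ∀ t : K,
    L.foldr (refl D4.cert) r < 24 ∧
      (L.map (nS rootedD4.toChecked K)).prod * X r t * ((L.map (nS rootedD4.toChecked K)).prod)⁻¹ =
        X (L.foldr (refl D4.cert) r) ((sgn L r : K) * t) := by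
  intro L
  induction L with
  | nil => intro _ r hr t; exact ⟨hr, by simp [sgn]⟩
  | cons i L ih =>
    intro hL r hr t
    obtain ⟨hlt, e⟩ := ih (fun j hj => hL j (List.mem_cons_of_mem _ hj)) hr t
    have hi := hL i List.mem_cons_self
    have h2 := rootedD4.toChecked.refl_lt hi (show L.foldr (refl D4.cert) r < chevD4.nroots from hlt)
    refine ⟨h2, ?_⟩
    rw [List.map_cons, List.prod_cons, List.foldr_cons, mul_inv_rev]
    calc nS rootedD4.toChecked K i * (L.map (nS rootedD4.toChecked K)).prod * X r t *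
          (((L.map (nS rootedD4.toChecked K)).prod)⁻¹ * (nS rootedD4.toChecked K i)⁻¹)
        = nS rootedD4.toChecked K i * ((L.map (nS rootedD4.toChecked K)).prod * X r t *
            ((L.map (nS rootedD4.toChecked K)).prod)⁻¹) * (nS rootedD4.toChecked K i)⁻¹ := by group
      _ = _ := by
        rw [e, X_eq_xGL (show _ < chevD4.nroots from hlt), rootedD4.toChecked.nS_conj_x hi hlt,
          mul_inv_cancel_right, ← X_eq_xGL h2]
        congr 1
        simp [sgn, mul_assoc]

theorem W0_X {r : ℕ} (hr : r < 24) (t : K) :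
    W0 K * X r t * (W0 K)⁻¹ = X (ng chevD4 r) ((sgn w0W r : K) * t) := by
  rw [← w0_data.1 r hr]
  exact (word_X w0W (by decide) hr t).2

theorem W0_X' {r : ℕ} (hr : r < 24) (t : K) :
    (W0 K)⁻¹ * X r t * W0 K = X (ng chevD4 r) ((sgn w0W (ng chevD4 r) : K) * t) := by
  have h2 : ng chevD4 r < 24 := Checked.ng_lt (D := chevD4) hr
  have e := W0_X (K := K) h2 ((sgn w0W (ng chevD4 r) : K) * t)
  rw [Checked.ng_ng (D := chevD4) hr, ← mul_assoc, ← Int.cast_mul, sgn_sq, Int.cast_one, one_mul] at e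
  rw [← e]; group

theorem W0_rg {L : List ℕ} (h : chkLt L = true) {g : GL chevD4.Idx K} (hg : g ∈ rg K L) :
    W0 K * g * (W0 K)⁻¹ ∈ rg K (opp L) ∧ (W0 K)⁻¹ * g * W0 K ∈ rg K (opp L) := by
  induction hg using Subgroup.closure_induction with
  | mem x hx =>
    obtain ⟨r, t, hr, e⟩ := hx
    have hr' := lt_of_chk h hr
    have : x = X r t := Units.ext (by rw [e, X_eq_xGL hr', coe_xGL])
    subst this
    rw [W0_X hr', W0_X' hr']
    exact ⟨X_mem_rg (List.mem_map_of_mem hr) _, X_mem_rg (List.mem_map_of_mem hr) _⟩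
  | one => simp
  | mul a b _ _ ha hb =>
    have h1 := mul_mem ha.1 hb.1
    have h2 := mul_mem ha.2 hb.2
    simp only [← mul_assoc, inv_mul_cancel_right, mul_inv_cancel_right] at h1 h2
    exact ⟨by simpa [mul_assoc] using h1, by simpa [mul_assoc] using h2⟩
  | inv a _ ha =>
    exact ⟨by simpa [mul_assoc] using inv_mem ha.1, by simpa [mul_assoc] using inv_mem ha.2⟩

theorem opp_opp {L : List ℕ} (h : chkLt L = true) : opp (opp L) = L := by
  rw [opp, opp, List.map_map]
  exact (List.map_congr_left fun r hr => Checked.ng_ng (D := chevD4) (lt_of_chk h hr)).trans L.map_id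

end Cfsg.Agent.Lib.ThompsonD4
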