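import Cfsg.Agent.Lib.Chev.SL2Hom
import Cfsg.Agent.Lib.ThompsonG2.Split

/-!
Diagonal elements and scalings in `SL₂`, for the Gauss decompositions in `³D₄(q)` (helper27).
-/

set_option autoImplicit false

namespace Cfsg.Agent.Lib.ThompsonD4

open Cfsg.Agent.Lib.Chev
open Cfsg.Agent.Lib.Chev.RankOneData (upper lower wElt sl_ext mul_entry upper_entries lower_entries wElt_entries)
open scoped Matrix MatrixGroups

variable {k : Type*} [Field k]

theorem wElt_eq : (wElt : SL(2, k)) = upper 1 * lower (-1) * upper 1 := by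
  refine sl_ext ?_ ?_ ?_ ?_ <;> simp [mul_entry, upper_entries, lower_entries, wElt_entries]

theorem sl2_le {M : Type*} [Group M] (f : SL(2, k) →* M) (H : Subgroup M) (hu : ∀ t, f (upper t) ∈ H)
    (hl : ∀ t, f (lower t) ∈ H) (g : SL(2, k)) : f g ∈ H := by
  suffices (⊤ : Subgroup SL(2, k)) ≤ H.comap f from this (Subgroup.mem_top g)
  rw [← RankOneData.closure_gens, Subgroup.closure_le]
  rintro g (⟨t, rfl⟩ | rfl)
  · exact hu t
  · show f wElt ∈ H
    rw [wElt_eq, map_mul, map_mul]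
    exact mul_mem (mul_mem (hu _) (hl _)) (hu _)

theorem sl2_ext {M : Type*} [Group M] (f f' : SL(2, k) →* M) (hu : ∀ t, f (upper t) = f' (upper t))
    (hl : ∀ t, f (lower t) = f' (lower t)) (g : SL(2, k)) : f g = f' g := by
  suffices (⊤ : Subgroup SL(2, k)) ≤ MonoidHom.eqLocus f f' from this (Subgroup.mem_top g)
  rw [← RankOneData.closure_gens, Subgroup.closure_le]
  rintro g (⟨t, rfl⟩ | rfl)
  · exact hu t
  · show f wElt = f' wElt
    rw [wElt_eq, map_mul, map_mul, map_mul, map_mul, hu, hl]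

/-- The diagonal matrices of determinant one. -/
def dia (t : kˣ) : SL(2, k) :=
  ⟨!![(t : k), 0; 0, ((t⁻¹ : kˣ) : k)], by rw [Matrix.det_fin_two_of]; simp⟩

theorem dia_entries (t : kˣ) : dia t 0 0 = (t : k) ∧ dia t 0 1 = 0 ∧ dia t 1 0 = 0 ∧
    dia t 1 1 = ((t⁻¹ : kˣ) : k) := ⟨rfl, rfl, rfl, rfl⟩

theorem dia_eq (t : kˣ) :
    dia t = upper (t : k) * lower (-(t : k)⁻¹) * upper (t : k) * (upper (-1) * lower 1 * upper (-1)) := by
  have ht := t.ne_zero
  refine sl_ext ?_ ?_ ?_ ?_ <;>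
    simp [mul_entry, upper_entries, lower_entries, dia_entries, Units.val_inv_eq_inv_val] <;> field_simp <;> ring

/-- Conjugation by `diag (a, 1)`. -/
def scFun (a : kˣ) (g : SL(2, k)) : SL(2, k) :=
  ⟨!![g 0 0, (a : k) * g 0 1; ((a⁻¹ : kˣ) : k) * g 1 0, g 1 1], by
    rw [Matrix.det_fin_two_of]
    linear_combination RankOneData.det_eq g - g 0 1 * g 1 0 * a.mul_inv⟩

theorem scFun_entries (a : kˣ) (g : SL(2, k)) :
    scFun a g 0 0 = g 0 0 ∧ scFun a g 0 1 = (a : k) * g 0 1 ∧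
      scFun a g 1 0 = ((a⁻¹ : kˣ) : k) * g 1 0 ∧ scFun a g 1 1 = g 1 1 := ⟨rfl, rfl, rfl, rfl⟩

/-- Conjugation by `diag (a, 1)`, as a homomorphism. -/
def sc (a : kˣ) : SL(2, k) →* SL(2, k) :=
  MonoidHom.mk' (scFun a) (fun g h => by
    refine sl_ext ?_ ?_ ?_ ?_ <;> simp only [mul_entry, scFun_entries]
    · linear_combination -g 0 1 * h 1 0 * a.mul_inv
    · ring
    · ring
    · linear_combination -g 1 0 * h 0 1 * a.mul_inv)

theorem sc_entries (a : kˣ) (g : SL(2, k)) :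
    sc a g 0 0 = g 0 0 ∧ sc a g 0 1 = (a : k) * g 0 1 ∧
      sc a g 1 0 = ((a⁻¹ : kˣ) : k) * g 1 0 ∧ sc a g 1 1 = g 1 1 := ⟨rfl, rfl, rfl, rfl⟩

theorem sc_upper (a : kˣ) (t : k) : sc a (upper t) = upper ((a : k) * t) := by
  refine sl_ext ?_ ?_ ?_ ?_ <;> simp [sc_entries, upper_entries]

theorem sc_lower (a : kˣ) (t : k) : sc a (lower t) = lower (((a⁻¹ : kˣ) : k) * t) := by
  refine sl_ext ?_ ?_ ?_ ?_ <;> simp [sc_entries, lower_entries]

end Cfsg.Agent.Lib.ThompsonD4
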