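import Cfsg.Agent.Lib.ThompsonD4.TwoST

/-!
For `q = 2` every element of `³D₄(q)` is a product of two conjugates of an element of order `21` of the Levi subgroup
of the long root (helper27).
-/

set_option autoImplicit false
set_option maxRecDepth 4000

namespace Cfsg.Agent.Lib.ThompsonD4

open Cfsg.Lie Cfsg.Agent.Lib.Chev
open Cfsg.Agent.Lib.Chev.RankOneData (upper lower sl_ext mul_entry upper_entries lower_entries wElt wElt_entries)
open Cfsg.Agent.Lib.TrialityInv (X Q)
open Cfsg.Agent.Lib.D4Deg41 (Hyp fixF mem_fixF fixF_coe)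
open scoped Matrix MatrixGroups

variable {K : Type*} [Field K] [Fintype K] {φ : K ≃+* K} (H : Hyp K 2 φ)
include H

theorem bad_of_not_good {c : Kˣ} (hc : c ≠ 1) {v u : ↥(twistedD4 K 2)} (hv : v ∈ sub K 2 (opp radA))
    (hu : u ∈ sub K 2 radA) {m : SL(2, K)} (hng : ¬ Good (x21 H c) (v * phiA H m * u)) :
    BadPairs c m (Rf H u) (Rf H (vo H v)) := by
  intro k τ hτ h00
  have hne : Rf H u (pt k) ≠ Rf H (vo H v) (pt (wElt * k)) := fun e => hng (good_pair H hc hv hu hτ h00 e)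
  rcases Rf_fixed H hu (pt k) with e | e <;>
    rcases Rf_fixed H (vo_mem H hv) (pt (wElt * k)) with e' | e' <;> rw [e, e'] at hne ⊢ <;>
    first
      | exact absurd rfl hne
      | simp

theorem good_upper {c : Kˣ} (hc : c ≠ 1) {v u : ↥(twistedD4 K 2)} (hv : v ∈ sub K 2 (opp radA))
    (hu : u ∈ sub K 2 radA) (s : K) : Good (x21 H c) (v * phiA H (upper s) * u) := by
  haveI := charP_two H
  by_contra hng
  exact upper_false H hc (sum_Rf H hu) (sum_Rf H (vo_mem H hv)) (bad_of_not_good H hc hv hu hng)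

theorem good_dia {c t : Kˣ} (hc : c ≠ 1) (ht : t ≠ 1) {v u : ↥(twistedD4 K 2)} (hv : v ∈ sub K 2 (opp radA))
    (hu : u ∈ sub K 2 radA) : Good (x21 H c) (v * phiA H (dia t) * u) := by
  haveI := charP_two H
  by_contra hng
  obtain ⟨hR, hP⟩ := dia_const H hc ht (sum_Rf H hu) (sum_Rf H (vo_mem H hv)) (bad_of_not_good H hc hv hu hng)
  obtain ⟨b, e, f, hb, he, hf, hQu⟩ := Rf_const H hu hR
  obtain ⟨b', e', f', hb', he', hf', hQv⟩ := Rf_const H (vo_mem H hv) hP
  refine hng ?_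
  have hu' : u = lng φ 14 ⟨b, mem_fixF.2 hb⟩ * (lng φ 22 ⟨e, mem_fixF.2 he⟩ * lng φ 23 ⟨f, mem_fixF.2 hf⟩) := by
    refine Subtype.ext ?_
    rw [Subgroup.coe_mul, Subgroup.coe_mul, coe_lng H (by decide), coe_lng H (by decide), coe_lng H (by decide), hQu]
    simp [Q, TrialityInv.P, TrialityInv.X_zero]
  have hv' : v = lng φ 1 ⟨b', mem_fixF.2 hb'⟩ * lng φ 0 ⟨f', mem_fixF.2 hf'⟩ * lng φ 9 ⟨e', mem_fixF.2 he'⟩ := by
    refine Subtype.ext ?_
    have e1 : ng chevD4 22 = 1 ∧ ng chevD4 23 = 0 ∧ ng chevD4 14 = 9 := by decide +kernel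
    have ev : (v : GL chevD4.Idx K) =
        (W0 K)⁻¹ * (psiA φ wElt * (vo H v : GL chevD4.Idx K) * (psiA φ wElt)⁻¹) * W0 K := by
      simp only [vo, Subgroup.coe_mul, Subgroup.coe_inv, coe_w0g, coe_phiA]
      group
    have hQ' : Q φ b' 0 0 0 e' f' = X 14 b' * X 22 e' * X 23 f' := by
      simp [Q, TrialityInv.P, TrialityInv.X_zero, mul_assoc]
    rw [ev, hQv, hQ', show ∀ (W T A B C : GL chevD4.Idx K), W⁻¹ * (T * (A * B * C) * T⁻¹) * W =
        (W⁻¹ * (T * A * T⁻¹) * W) * (W⁻¹ * (T * B * T⁻¹) * W) * (W⁻¹ * (T * C * T⁻¹) * W) from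
        fun W T A B C => by group,
      wA_long H (r := 14) (s := 22) (by decide), wA_long H (r := 22) (s := 14) (by decide),
      wA_long H (r := 23) (s := 23) (by decide), W0_X' (by norm_num), W0_X' (by norm_num), W0_X' (by norm_num),
      e1.1, e1.2.1, e1.2.2, sgn_w0 1 (by norm_num), sgn_w0 0 (by norm_num), sgn_w0 9 (by norm_num),
      Subgroup.coe_mul, Subgroup.coe_mul, coe_lng H (by decide), coe_lng H (by decide), coe_lng H (by decide)]
    push_cast
    simp only [neg_one_mul, X_neg]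
    rw [mul_assoc, mul_assoc,
      (X_commute (r := 0) (s := 9) (by decide +kernel) (by norm_num) (by norm_num) f' e').eq]
  rw [hu', hv', phiA_dia]
  exact good_st H hc ht _ _ _ _ _ _

theorem good_state {c : Kˣ} (hc : c ≠ 1) {v u : ↥(twistedD4 K 2)} (hv : v ∈ sub K 2 (opp radA))
    (hu : u ∈ sub K 2 radA) (m : SL(2, K)) : Good (x21 H c) (v * phiA H m * u) := by
  haveI := charP_two H
  by_cases hell : ∀ k : SL(2, K), (k * m * k⁻¹) 1 0 ≠ 0
  · by_contra hng
    have hbad := bad_of_not_good H hc hv hu hng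
    exact elliptic_false H.hK (sum_Rf H hu) (sum_Rf H (vo_mem H hv))
      (fun k hk => hbad k 1 (Or.inl rfl) (by rw [hk, Units.val_one])) hell
  push Not at hell
  obtain ⟨k0, hk0⟩ := hell
  -- conjugation by the short node
  have hcj : ∀ k : SL(2, K), Good (x21 H c) (phiA H k * v * (phiA H k)⁻¹ * phiA H (k * m * k⁻¹) *
      (phiA H k * u * (phiA H k)⁻¹)) → Good (x21 H c) (v * phiA H m * u) := fun k h =>
    Good.of_cj ⟨phiA H k, by simp only [map_mul, map_inv]; group⟩ h
  have hV : ∀ k, phiA H k * v * (phiA H k)⁻¹ ∈ sub K 2 (opp radA) :=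
    fun k => phiA_sub H (by decide +kernel) k hv
  have hU : ∀ k, phiA H k * u * (phiA H k)⁻¹ ∈ sub K 2 radA := fun k => phiA_sub H (by decide +kernel) k hu
  set M := k0 * m * k0⁻¹ with hM
  have hd := RankOneData.det_eq M
  rw [hk0, mul_zero, sub_zero] at hd
  have h00 : M 0 0 ≠ 0 := fun e => by rw [e, zero_mul] at hd; exact zero_ne_one hd
  by_cases h1 : M 0 0 = 1
  · refine hcj k0 ?_
    have : M = upper (M 0 1) := by
      refine sl_ext ?_ ?_ ?_ ?_ <;> simp [upper_entries, h1, hk0]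
      rwa [h1, one_mul] at hd
    rw [← hM, this]
    exact good_upper H hc (hV k0) (hU k0) _
  · set t : Kˣ := Units.mk0 (M 0 0) h00 with ht
    have ht1 : t ≠ 1 := fun e => h1 (congrArg Units.val e)
    have h11 : M 1 1 = (M 0 0)⁻¹ := eq_inv_of_mul_eq_one_right hd
    have hne : M 0 0 - (M 0 0)⁻¹ ≠ 0 := fun e => by
      refine ht1 (unit_sq_eq_one H ?_)
      show M 0 0 ^ 2 = 1
      rw [sq]; nth_rw 1 [sub_eq_zero.1 e]; exact inv_mul_cancel₀ h00
    set y := M 0 1 / (M 0 0 - (M 0 0)⁻¹)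
    have hy : y * (M 0 0 - (M 0 0)⁻¹) = M 0 1 := div_mul_cancel₀ _ hne
    refine hcj (upper y * k0) ?_
    have e : upper y * k0 * m * (upper y * k0)⁻¹ = dia t := by
      rw [show upper y * k0 * m * (upper y * k0)⁻¹ = upper y * M * (upper y)⁻¹ by rw [hM]; group,
        mul_inv_eq_iff_eq_mul]
      refine sl_ext ?_ ?_ ?_ ?_ <;>
        simp only [mul_entry, upper_entries, dia_entries, hk0, h11, ht, Units.val_mk0, Units.val_inv_eq_inv_val] <;>
        first | ring1 | linear_combination -hy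
    rw [e]
    exact good_dia H hc ht1 (hV _) (hU _)

/-- Every element is a product of two conjugates of an element of order `21`. -/
theorem good_two (p : ℕ) [Fact p.Prime] (hp : p ∣ 2) :
    ∃ x : ↥(twistedD4 K 2), ¬ p ∣ orderOf x ∧ ∀ g, g ≠ 1 → Good x g := by
  classical
  obtain ⟨c, hc⟩ : ∃ c : Kˣ, c ≠ 1 := by
    refine Fintype.exists_ne_of_one_lt_card ?_ 1
    rw [Fintype.card_units, H.hK]; norm_num
  refine ⟨x21 H c, x21_order H c p hp, fun g _ => ?_⟩
  obtain ⟨v, a, u, h⟩ := exists_rep' H g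
  obtain ⟨v', p', r', u', hv, hu, hcj⟩ := (nodeA H).exists_dec h
  refine Good.of_cj hcj ?_
  have ea : a = (a.1, 1) := Prod.ext rfl (unit_one H a.2)
  rw [show (nodeA H).phi = phiA H from rfl, ea, ← phiA_dia,
    show v' * phiA H (lower p') * phiA H (dia a.1) * (phiA H (upper r') * u') =
      v' * phiA H (lower p' * dia a.1 * upper r') * u' by simp only [map_mul]; group]
  exact good_state H hc hv hu _

end Cfsg.Agent.Lib.ThompsonD4
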