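import Cfsg.Agent.Lib.ThompsonD4.Weyl
import Cfsg.Agent.Lib.ThompsonD4.Regular

/-!
The coordinate at the long simple root along the conjugates under the short rank one subgroup of `³D₄(2)`: a
function on the nine points of the projective line over the field with eight elements (helper27).
-/

set_option autoImplicit false
set_option maxRecDepth 4000
set_option maxHeartbeats 1000000

namespace Cfsg.Agent.Lib.ThompsonD4

open Cfsg.Lie Cfsg.Agent.Lib.Chev Cfsg.Agent.Lib.Twisted Cfsg.Agent.Lib.Twisted.Core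
open Cfsg.Agent.Lib.Chev.RankOneData (upper lower wElt sl_ext mul_entry upper_entries lower_entries wElt_entries)
open Cfsg.Agent.Lib.TrialityInv (X X_eq_xGL P P_inj Q Q_mul Q_inj exists_Q X_mem_group)
open Cfsg.Agent.Lib.TrialityTorus (phi_wElt)
open Cfsg.Agent.Lib.D4Deg41 (Hyp fixF mem_fixF fixF_coe)
open Cfsg.Agent.Lib.Schur.TwistD4P (nrm3)
open Cfsg.Agent.Lib.Schur.TwistTwo (chkLt chkPair rg_nil)
open Cfsg.Agent.Lib.Schur.TwistLift (RootLayers)
open scoped Matrix MatrixGroups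

/-- A point of the projective line for an element of `SL₂`: the line of its second row. -/
noncomputable def pt {k : Type*} [Field k] (g : SL(2, k)) : Option k :=
  by classical exact if g 1 0 = 0 then none else some (g 1 1 / g 1 0)

/-- A representative of a point. -/
def rep {k : Type*} [Field k] : Option k → SL(2, k)
  | none => 1
  | some l => wElt * upper l

theorem pt_zero {k : Type*} [Field k] {g : SL(2, k)} (h : g 1 0 = 0) : pt g = none := by
  unfold pt; rw [if_pos h]

theorem pt_some {k : Type*} [Field k] {g : SL(2, k)} (h : g 1 0 ≠ 0) : pt g = some (g 1 1 / g 1 0) := by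
  unfold pt; rw [if_neg h]

theorem exists_borel {k : Type*} [Field k] (g : SL(2, k)) :
    ∃ (t : kˣ) (s : k), g = dia t * upper s * rep (pt g) := by
  have hd := RankOneData.det_eq g
  by_cases h : g 1 0 = 0
  · rw [pt_zero h]
    have h00 : g 0 0 ≠ 0 := fun e => by rw [h, e] at hd; simp at hd
    refine ⟨Units.mk0 _ h00, g 0 1 / g 0 0, sl_ext ?_ ?_ ?_ ?_⟩ <;>
      simp [rep, mul_entry, upper_entries, dia_entries, h, Units.val_inv_eq_inv_val]
    · field_simp
    · rw [h] at hd; field_simp; linear_combination hd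
  · rw [pt_some h]
    refine ⟨Units.mk0 _ (inv_ne_zero (neg_ne_zero.2 h)), g 0 0 * g 1 0, sl_ext ?_ ?_ ?_ ?_⟩ <;>
      simp [rep, mul_entry, upper_entries, dia_entries, wElt_entries, Units.val_inv_eq_inv_val] <;> field_simp <;>
      first | linear_combination hd | linear_combination -hd | ring

variable {K : Type*} [Field K]

/-- The coordinate at the long simple root. -/
noncomputable def cb (φ : K ≃+* K) (u : GL chevD4.Idx K) : K :=
  by classical exact if h : ∃ b a c d e f : K, u = Q φ b a c d e f then h.choose else 0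

/-- The roots of the long rank one subgroups of the Levi decomposition seen from the short node. -/
abbrev radAB : List ℕ := [15, 16, 17, 19, 20, 21, 22, 23]

variable {φ : K ≃+* K}

theorem psiA_Q (s : K) : psiA φ (upper s) = Q φ 0 s 0 0 0 0 := by
  rw [psiA_upper]
  simp [Q, P, TrialityInv.X_zero]

theorem Q_b (b : K) : (X 14 b : GL chevD4.Idx K) = Q φ b 0 0 0 0 0 := by simp [Q, P, TrialityInv.X_zero]

theorem Q_split (b a c d e f : K) : ∃ w ∈ rg K radB, Q φ b a c d e f = X 14 b * w := by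
  refine ⟨_, ?_, rfl⟩
  repeat' first | exact X_mem_rg (by decide) _ | apply Subgroup.mul_mem

theorem disj_of_chk {A B : List ℕ} (h : A.all (fun r => decide (r ∉ B)) = true) :
    ∀ r ∈ {r | r ∈ A}, r ∉ {r | r ∈ B} :=
  fun r hr => of_decide_eq_true (List.all_eq_true.1 h r hr)

variable [Fintype K] (H : Hyp K 2 φ)
include H

theorem charP_two : CharP K 2 := charP_of_card_eq_prime_pow (p := 2) H.hK

theorem fix01 {x : K} (hx : φ x = x) : x = 0 ∨ x = 1 := by
  rw [H.hφ] at hx
  have h2 : x * (x - 1) = 0 := by linear_combination hx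
  rcases mul_eq_zero.1 h2 with h | h
  exacts [Or.inl h, Or.inr (sub_eq_zero.1 h)]

theorem unit_one (s : (fixF φ)ˣ) : s = 1 := by
  refine Units.ext (Subtype.ext ?_)
  rcases fix01 H (fixF_coe (s : fixF φ)) with h | h
  · exact absurd (Subtype.ext h) s.ne_zero
  · rw [h]; simp

theorem nrm_one (t : Kˣ) : nrm3 φ (t : K) = 1 := by
  rw [← coe_nU H, unit_one H (nU H t)]
  simp

theorem chiB_one (a : Kˣ × (fixF φ)ˣ) : chiB H a = 1 := unit_one H _

theorem cb_Q (b a c d e f : K) : cb φ (Q φ b a c d e f) = b := by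
  classical
  haveI := charP_two H
  have h : ∃ b' a' c' d' e' f' : K, Q φ b a c d e f = Q φ b' a' c' d' e' f' := ⟨b, a, c, d, e, f, rfl⟩
  unfold cb
  rw [dif_pos h]
  obtain ⟨a', c', d', e', f', h'⟩ := h.choose_spec
  exact (Q_inj φ h').1.symm

theorem exists_coord {u : ↥(twistedD4 K 2)} (hu : u ∈ sub K 2 posL) :
    ∃ b a c d e f : K, φ b = b ∧ φ e = e ∧ φ f = f ∧ (u : GL chevD4.Idx K) = Q φ b a c d e f := by
  haveI := charP_two H
  have hu' : (u : GL chevD4.Idx K) ∈ chevD4.posUnipotent K := (rg_pos (K := K)).symm ▸ hu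
  exact exists_Q φ hu' (d4_le_fixed φ H.hφ H.phi3 u.2)

theorem cb_mul {u u' : ↥(twistedD4 K 2)} (hu : u ∈ sub K 2 posL) (hu' : u' ∈ sub K 2 posL) :
    cb φ ((u * u' : ↥(twistedD4 K 2)) : GL chevD4.Idx K) = cb φ (u : GL chevD4.Idx K) + cb φ u' := by
  haveI := charP_two H
  obtain ⟨b, a, c, d, e, f, -, -, -, h⟩ := exists_coord H hu
  obtain ⟨b', a', c', d', e', f', hb', -, -, h'⟩ := exists_coord H hu'
  rw [Subgroup.coe_mul, h, h', Q_mul φ H.phi3 hb', cb_Q H, cb_Q H, cb_Q H]

theorem cb_fixed {u : ↥(twistedD4 K 2)} (hu : u ∈ sub K 2 posL) :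
    cb φ (u : GL chevD4.Idx K) = 0 ∨ cb φ (u : GL chevD4.Idx K) = 1 := by
  obtain ⟨b, a, c, d, e, f, hb, -, -, h⟩ := exists_coord H hu
  rw [h, cb_Q H]
  exact fix01 H hb

theorem cb_radB {u : ↥(twistedD4 K 2)} (hu : u ∈ sub K 2 radB) : cb φ (u : GL chevD4.Idx K) = 0 := by
  haveI := charP_two H
  obtain ⟨b, a, c, d, e, f, -, -, -, h⟩ := exists_coord H (u := u) (rg_mono (by decide) hu)
  rw [h, cb_Q H]
  obtain ⟨w, hw, e2⟩ := Q_split (φ := φ) b a c d e f
  have hX : (X 14 b : GL chevD4.Idx K) ∈ rg K radB := by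
    rw [show (X 14 b : GL chevD4.Idx K) = (u : GL chevD4.Idx K) * w⁻¹ by rw [h, e2]; group]
    exact mul_mem hu (inv_mem hw)
  have h1 : (X 14 b : GL chevD4.Idx K) = 1 := RootLayers.rootGen_disjoint rootedD4 (pos_of_chk (L := orbB) (by decide))
    (pos_of_chk (L := radB) (by decide)) (closed_of_chk (by decide +kernel)) (closed_of_chk (by decide +kernel))
    (disj_of_chk (by decide)) (X_mem_rg (by decide) b) hX
  rw [Q_b (φ := φ), ← TrialityInv.Q_zero φ] at h1
  exact (Q_inj φ h1).1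

theorem cb_phiB (r : fixF φ) : cb φ (phiB H (upper r) : GL chevD4.Idx K) = (r : K) := by
  rw [coe_phiB, psiB_upper, Q_b (φ := φ), cb_Q H]

theorem cb_borel (t : Kˣ) (s : K) {u : ↥(twistedD4 K 2)} (hu : u ∈ sub K 2 radA) :
    cb φ (phiA H (dia t * upper s) * u * (phiA H (dia t * upper s))⁻¹ : ↥(twistedD4 K 2)) =
      cb φ (u : GL chevD4.Idx K) := by
  haveI := charP_two H
  have hp : ∀ {w}, w ∈ sub K 2 radA → w ∈ sub K 2 posL := fun hw => rg_mono (by decide) hw
  -- conjugation by the positive root elements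
  have hs : ∀ w ∈ sub K 2 posL, cb φ (phiA H (upper s) * w * (phiA H (upper s))⁻¹ : ↥(twistedD4 K 2)) =
      cb φ (w : GL chevD4.Idx K) := by
    intro w hw
    have hA : ∀ r, phiA H (upper r) ∈ sub K 2 radB := fun r => by
      show psiA φ (upper r) ∈ rg K radB
      rw [psiA_upper]
      exact mul_mem (X_mem_rg (by decide) _) (mul_mem (X_mem_rg (by decide) _) (X_mem_rg (by decide) _))
    have hA' : ∀ r, phiA H (upper r) ∈ sub K 2 posL := fun r => rg_mono (by decide) (hA r)
    rw [cb_mul H (mul_mem (hA' s) hw) (inv_mem (hA' s)), cb_mul H (hA' s) hw, cb_radB H (hA s),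
      cb_radB H (inv_mem (hA s)), zero_add, add_zero]
  have hT : ∀ w ∈ sub K 2 posL, cb φ (tor H (t, 1) * w * (tor H (t, 1))⁻¹ : ↥(twistedD4 K 2)) =
      cb φ (w : GL chevD4.Idx K) := by
    intro w hw
    obtain ⟨r, w', hw', rfl⟩ := splitU_B H hw
    have hP : phiB H (upper r) ∈ sub K 2 posL := by
      show psiB φ (upper r) ∈ rg K posL
      rw [psiB_upper]; exact X_mem_rg (by decide) _
    have h1 : tor H (t, 1) * phiB H (upper r) * (tor H (t, 1))⁻¹ = phiB H (upper r) := by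
      rw [tor_conj_phiB, chiB_one H, sc_upper, Units.val_one, one_mul]
    have h2 := tor_sub H (L := radB) (by decide) (t, 1) hw'
    rw [show tor H (t, 1) * (phiB H (upper r) * w') * (tor H (t, 1))⁻¹ =
        (tor H (t, 1) * phiB H (upper r) * (tor H (t, 1))⁻¹) * (tor H (t, 1) * w' * (tor H (t, 1))⁻¹) by group, h1,
      cb_mul H hP (rg_mono (by decide) h2), cb_mul H hP (rg_mono (by decide) hw'), cb_radB H h2, cb_radB H hw']
  have h1 : phiA H (upper s) * u * (phiA H (upper s))⁻¹ ∈ sub K 2 posL :=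
    hp (phiA_sub H (by decide +kernel) _ hu)
  rw [show phiA H (dia t * upper s) * u * (phiA H (dia t * upper s))⁻¹ =
    tor H (t, 1) * (phiA H (upper s) * u * (phiA H (upper s))⁻¹) * (tor H (t, 1))⁻¹ by
      rw [map_mul, phiA_dia]; group, hT _ h1, hs _ (hp hu)]

/-- The value at a point. -/
noncomputable def Rf (u : ↥(twistedD4 K 2)) (x : Option K) : K :=
  cb φ (phiA H (rep x) * u * (phiA H (rep x))⁻¹ : ↥(twistedD4 K 2))

theorem cb_conj {u : ↥(twistedD4 K 2)} (hu : u ∈ sub K 2 radA) (k : SL(2, K)) :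
    cb φ (phiA H k * u * (phiA H k)⁻¹ : ↥(twistedD4 K 2)) = Rf H u (pt k) := by
  obtain ⟨t, s, e⟩ := exists_borel k
  conv_lhs => rw [e]
  rw [show phiA H (dia t * upper s * rep (pt k)) * u * (phiA H (dia t * upper s * rep (pt k)))⁻¹ =
    phiA H (dia t * upper s) * (phiA H (rep (pt k)) * u * (phiA H (rep (pt k)))⁻¹) *
      (phiA H (dia t * upper s))⁻¹ by simp only [map_mul]; group]
  exact cb_borel H t s (phiA_sub H (by decide +kernel) _ hu)

theorem Rf_fixed {u : ↥(twistedD4 K 2)} (hu : u ∈ sub K 2 radA) (x : Option K) : Rf H u x = 0 ∨ Rf H u x = 1 :=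
  cb_fixed H (rg_mono (by decide) (phiA_sub H (by decide +kernel) _ hu))

theorem exists_coord_radA {u : ↥(twistedD4 K 2)} (hu : u ∈ sub K 2 radA) :
    ∃ b c d e f : K, φ b = b ∧ φ e = e ∧ φ f = f ∧ (u : GL chevD4.Idx K) = Q φ b 0 c d e f := by
  haveI := charP_two H
  obtain ⟨b, a, c, d, e, f, hb, he, hf, h⟩ := exists_coord H (u := u) (rg_mono (by decide) hu)
  refine ⟨b, c, d, e, f, hb, he, hf, ?_⟩
  have hX14 : (X 14 b : GL chevD4.Idx K) ∈ rg K radA := X_mem_rg (by decide) _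
  have hr : X 19 c * (X 16 (φ c) * (X 15 (φ (φ c)) * (X 20 d * (X 21 (φ d) * (X 17 (φ (φ d)) *
      (X 22 e * X 23 f)))))) ∈ rg K radA := by
    repeat' first | exact X_mem_rg (by decide) _ | apply Subgroup.mul_mem
  have hA : psiA φ (upper a) ∈ rg K radA := by
    have : psiA φ (upper a) = (X 14 b)⁻¹ * (u : GL chevD4.Idx K) *
        (X 19 c * (X 16 (φ c) * (X 15 (φ (φ c)) * (X 20 d * (X 21 (φ d) * (X 17 (φ (φ d)) *
          (X 22 e * X 23 f)))))))⁻¹ := by
      rw [h, psiA_upper, Q, P]; group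
    rw [this]
    exact mul_mem (mul_mem (inv_mem hX14) hu) (inv_mem hr)
  have hA' : psiA φ (upper a) ∈ rg K orbA := by
    rw [psiA_upper]
    exact mul_mem (X_mem_rg (by decide) _) (mul_mem (X_mem_rg (by decide) _) (X_mem_rg (by decide) _))
  have h1 : psiA φ (upper a) = 1 := RootLayers.rootGen_disjoint rootedD4 (pos_of_chk (L := orbA) (by decide))
    (pos_of_chk (L := radA) (by decide)) (closed_of_chk (by decide +kernel)) (closed_of_chk (by decide +kernel))
    (disj_of_chk (by decide)) hA' hA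
  rw [psiA_Q, ← TrialityInv.Q_zero φ] at h1
  rw [h, (Q_inj φ h1).2.1]

omit H [Fintype K] in
theorem X_neg [CharP K 2] (r : ℕ) (t : K) : X r (-t) = X r t := by rw [CharTwo.neg_eq]

theorem wA_X {r : ℕ} (hr : r < 24) (t : K) :
    psiA φ wElt * X r t * (psiA φ wElt)⁻¹ =
      X (refl D4.cert 0 (refl D4.cert 2 (refl D4.cert 3 r))) t := by
  haveI := charP_two H
  have h := word_X (K := K) [0, 2, 3] (by decide) hr t
  have e : psiA φ wElt = ([0, 2, 3].map (nS rootedD4.toChecked K)).prod := by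
    rw [psiA_apply, mφ, map_wElt, map_wElt, phi_wElt, phi_wElt, phi_wElt]
    simp
  rw [e, h.2]
  have hs : (sgn [0, 2, 3] r : K) = 1 := by
    rcases eq_or_ne (sgn [0, 2, 3] r) 1 with h1 | h1
    · simp [h1]
    · have h2 : sgn [0, 2, 3] r = -1 := by
        rcases mul_self_eq_one_iff.1 (sgn_sq [0, 2, 3] r) with h2 | h2
        exacts [absurd h2 h1, h2]
      simp [h2, CharTwo.neg_eq]
  rw [hs, one_mul]
  rfl

theorem Rf_none (u : ↥(twistedD4 K 2)) : Rf H u none = cb φ (u : GL chevD4.Idx K) := by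
  simp [Rf, rep]

/-- The polynomial part of the values. -/
def pp (φ : K ≃+* K) (c d l : K) : K :=
  l * φ (φ d) + φ l * d + φ (φ l) * φ d + l * φ l * φ (φ c) + l * φ (φ l) * φ c + φ l * φ (φ l) * c

theorem Q_conj (l b c d e f : K) (hb : φ b = b) : ∃ c1 d1 f1 : K,
    Q φ 0 l 0 0 0 0 * Q φ b 0 c d e f * Q φ 0 l 0 0 0 0 = Q φ b 0 c1 d1 (e + b * nrm3 φ l + pp φ c d l) f1 := by
  haveI := charP_two H
  have h2 : (2 : K) = 0 := CharTwo.two_eq_zero
  rw [Q_mul φ H.phi3 hb, Q_mul φ H.phi3 (map_zero φ)]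
  refine ⟨_, _, _, TrialityInv.Q_congr φ (by simp) (by linear_combination l * h2) rfl rfl ?_ rfl⟩
  simp only [pp, nrm3, map_add, map_mul, map_zero, hb, H.phi3]
  linear_combination (3 * b * (l * φ l * φ (φ l))) * h2

theorem Rf_some {u : ↥(twistedD4 K 2)} (hu : u ∈ sub K 2 radA) {b c d e f : K} (hb : φ b = b) (he : φ e = e)
    (hQ : (u : GL chevD4.Idx K) = Q φ b 0 c d e f) (l : K) :
    Rf H u (some l) = e + b * nrm3 φ l + pp φ c d l := by
  haveI := charP_two H
  set w := phiA H (upper l) * u * (phiA H (upper l))⁻¹ with hw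
  have hwA : w ∈ sub K 2 radA := phiA_sub H (by decide +kernel) _ hu
  have hr : Rf H u (some l) = cb φ (phiA H wElt * w * (phiA H wElt)⁻¹ : ↥(twistedD4 K 2)) := by
    rw [Rf, hw]
    congr 2
    rw [rep, map_mul]
    group
  -- the conjugate under the root element
  obtain ⟨c1, d1, f1, hw'⟩ : ∃ c1 d1 f1 : K, (w : GL chevD4.Idx K) =
      Q φ b 0 c1 d1 (e + b * nrm3 φ l + pp φ c d l) f1 := by
    have hinv : (psiA φ (upper l))⁻¹ = psiA φ (upper l) := by
      rw [← map_inv]
      congr 1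
      refine inv_eq_of_mul_eq_one_right (sl_ext ?_ ?_ ?_ ?_) <;>
        simp [mul_entry, upper_entries, CharTwo.add_self_eq_zero]
    obtain ⟨c1, d1, f1, h⟩ := Q_conj H l b c d e f hb
    exact ⟨c1, d1, f1, by
      rw [hw, Subgroup.coe_mul, Subgroup.coe_mul, Subgroup.coe_inv, coe_phiA, hinv, hQ, psiA_Q, h]⟩
  -- the reflection
  rw [hr, Subgroup.coe_mul, Subgroup.coe_mul, Subgroup.coe_inv, coe_phiA, hw']
  set e' := e + b * nrm3 φ l + pp φ c d l with he'
  have hwE : psiA φ wElt * Q φ b 0 c1 d1 e' f1 * (psiA φ wElt)⁻¹ =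
      X 22 b * (X 17 c1 * (X 20 (φ c1) * (X 21 (φ (φ c1)) * (X 16 d1 * (X 15 (φ d1) * (X 19 (φ (φ d1)) *
        (X 14 e' * X 23 f1))))))) := by
    have hd : ∀ p ∈ [(14, 22), (19, 17), (16, 20), (15, 21), (20, 16), (21, 15), (17, 19), (22, 14), (23, 23)],
        p.1 < 24 ∧ refl D4.cert 0 (refl D4.cert 2 (refl D4.cert 3 p.1)) = p.2 := by decide +kernel
    have hx : ∀ p ∈ [(14, 22), (19, 17), (16, 20), (15, 21), (20, 16), (21, 15), (17, 19), (22, 14), (23, 23)],
        ∀ t : K, psiA φ wElt * X p.1 t * (psiA φ wElt)⁻¹ = X p.2 t := fun p hp t => by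
      rw [wA_X H (hd p hp).1, (hd p hp).2]
    simp only [Q, P, map_zero, TrialityInv.X_zero, one_mul]
    conv_rhs => rw [← hx (14, 22) (by simp) b, ← hx (19, 17) (by simp) c1, ← hx (16, 20) (by simp) (φ c1),
      ← hx (15, 21) (by simp) (φ (φ c1)), ← hx (20, 16) (by simp) d1, ← hx (21, 15) (by simp) (φ d1),
      ← hx (17, 19) (by simp) (φ (φ d1)), ← hx (22, 14) (by simp) e', ← hx (23, 23) (by simp) f1]
    group
  obtain ⟨B, A1, C1, D1, E1, F1, -, -, -, hz⟩ := exists_coord H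
    (u := phiA H wElt * w * (phiA H wElt)⁻¹)
    (rg_mono (A := radA) (B := posL) (by decide) (phiA_sub H (by decide +kernel) wElt hwA))
  rw [Subgroup.coe_mul, Subgroup.coe_mul, Subgroup.coe_inv, coe_phiA, hw'] at hz
  rw [hz, cb_Q H]
  rw [hwE] at hz
  obtain ⟨z, hz', ez⟩ := Q_split (φ := φ) B A1 C1 D1 E1 F1
  rw [ez] at hz
  set W1 := X 22 b * (X 17 c1 * (X 20 (φ c1) * (X 21 (φ (φ c1)) * (X 16 d1 * (X 15 (φ d1) * X 19 (φ (φ d1)))))))
    with hW1
  have hW1m : W1 ∈ rg K radB := by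
    rw [hW1]
    repeat' first | exact X_mem_rg (by decide) _ | apply Subgroup.mul_mem
  have hN : X 14 e' ∈ Subgroup.normalizer (rg K radB : Set (GL chevD4.Idx K)) :=
    mem_norm (by decide +kernel) (by decide) (by decide +kernel) (X_mem_rg (L := orbB) (by decide) _)
  have hW1' : (X 14 e')⁻¹ * W1 * X 14 e' ∈ rg K radB := by
    have := (Subgroup.mem_normalizer_iff.1 (inv_mem hN) W1).1 hW1m
    rwa [inv_inv] at this
  have hX : X 14 (B + e') ∈ rg K radB := by
    have e3 : (X 14 B : GL chevD4.Idx K)⁻¹ * X 14 e' = z * ((X 14 e')⁻¹ * W1 * X 14 e' * X 23 f1)⁻¹ := by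
      calc (X 14 B : GL chevD4.Idx K)⁻¹ * X 14 e' = (X 14 B)⁻¹ * (X 14 B * z) *
            ((X 14 e')⁻¹ * W1 * X 14 e' * X 23 f1)⁻¹ := by
            rw [← hz, hW1]; group
        _ = _ := by group
    have e4 : (X 14 B : GL chevD4.Idx K)⁻¹ = X 14 B :=
      inv_eq_of_mul_eq_one_right (by rw [TrialityInv.X_merge, CharTwo.add_self_eq_zero, TrialityInv.X_zero])
    rw [e4, TrialityInv.X_merge] at e3
    rw [e3]
    exact mul_mem hz' (inv_mem (mul_mem hW1' (X_mem_rg (by decide) _)))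
  have h1 : (X 14 (B + e') : GL chevD4.Idx K) = 1 := RootLayers.rootGen_disjoint rootedD4
    (pos_of_chk (L := orbB) (by decide)) (pos_of_chk (L := radB) (by decide)) (closed_of_chk (by decide +kernel))
    (closed_of_chk (by decide +kernel)) (disj_of_chk (by decide)) (X_mem_rg (by decide) _) hX
  rw [Q_b (φ := φ), ← TrialityInv.Q_zero φ] at h1
  exact CharTwo.add_eq_zero.1 (Q_inj φ h1).1

theorem pow_eight (l : K) : φ l = l ^ 2 ∧ φ (φ l) = l ^ 4 := by
  refine ⟨H.hφ l, ?_⟩
  rw [H.hφ, H.hφ, ← pow_mul]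

/-- The values of the nine points sum to zero. -/
theorem Rf_sum {u : ↥(twistedD4 K 2)} (hu : u ∈ sub K 2 radA) :
    Rf H u none + ∑ l : K, Rf H u (some l) = 0 := by
  classical
  haveI := charP_two H
  obtain ⟨b, c, d, e, f, hb, he, -, hQ⟩ := exists_coord_radA H hu
  have hc : Fintype.card K = 8 := H.hK
  have hpow : ∀ j < 7, ∑ l : K, l ^ j = 0 := fun j hj =>
    FiniteField.sum_pow_lt_card_sub_one K j (by rw [hc]; exact hj)
  rw [Rf_none, hQ, cb_Q H]
  have e1 : ∀ (A : K) (j : ℕ), j < 7 → ∑ l : K, l ^ j * A = 0 := fun A j hj => by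
    rw [← Finset.sum_mul, hpow j hj, zero_mul]
  have key : ∀ l : K, pp φ c d l = l ^ 1 * d ^ 4 + l ^ 2 * d + l ^ 4 * d ^ 2 + l ^ 3 * c ^ 4 + l ^ 5 * c ^ 2 +
      l ^ 6 * c := fun l => by
    rw [pp, (pow_eight H l).2, (pow_eight H l).1, (pow_eight H c).2, (pow_eight H c).1, (pow_eight H d).2,
      (pow_eight H d).1]
    ring
  have hN : ∑ l : K, b * nrm3 φ l = b := by
    rw [← Finset.add_sum_erase _ _ (Finset.mem_univ (0 : K)), show b * nrm3 φ (0 : K) = 0 by simp [nrm3], zero_add,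
      Finset.sum_congr rfl (g := fun _ => b) (fun x hx => by
        rw [show nrm3 φ x = 1 from nrm_one H (Units.mk0 x (Finset.ne_of_mem_erase hx)), mul_one]),
      Finset.sum_const, Finset.card_erase_of_mem (Finset.mem_univ _), Finset.card_univ, hc]
    have h2 : (2 : K) = 0 := CharTwo.two_eq_zero
    simp only [nsmul_eq_mul]
    push_cast
    linear_combination (3 * b) * h2
  have h2 : (2 : K) = 0 := CharTwo.two_eq_zero
  simp only [Rf_some H hu hb he hQ, key, Finset.sum_add_distrib, hN, e1 _ 1 (by norm_num), e1 _ 2 (by norm_num),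
    e1 _ 3 (by norm_num), e1 _ 4 (by norm_num), e1 _ 5 (by norm_num), e1 _ 6 (by norm_num), add_zero,
    Finset.sum_const, Finset.card_univ, hc, nsmul_eq_mul]
  push_cast
  linear_combination (4 * e + b) * h2

/-- Constant values off two points kill the middle coordinates. -/
theorem Rf_const {u : ↥(twistedD4 K 2)} (hu : u ∈ sub K 2 radA) {γ : K}
    (h : ∀ l : K, l ≠ 0 → Rf H u (some l) = γ) :
    ∃ b e f : K, φ b = b ∧ φ e = e ∧ φ f = f ∧ (u : GL chevD4.Idx K) = Q φ b 0 0 0 e f := by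
  classical
  obtain ⟨b, c, d, e, f, hb, he, hf, hQ⟩ := exists_coord_radA H hu
  open Polynomial in
  let p : K[X] := C (φ (φ d)) * Polynomial.X + C d * Polynomial.X ^ 2 + C (φ d) * Polynomial.X ^ 4 +
    C (φ (φ c)) * Polynomial.X ^ 3 + C (φ c) * Polynomial.X ^ 5 + C c * Polynomial.X ^ 6 + C (e + b - γ)
  have hp : p = 0 := by
    refine Polynomial.eq_zero_of_natDegree_lt_card_of_eval_eq_zero' p ((Finset.univ : Finset K).erase 0)
      (fun l hl => ?_) ?_
    · have hl0 : l ≠ 0 := (Finset.mem_erase.1 hl).1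
      have := h l hl0
      rw [Rf_some H hu hb he hQ, show nrm3 φ l = 1 from nrm_one H (Units.mk0 l hl0), pp, (pow_eight H l).2,
        (pow_eight H l).1] at this
      simp only [p, Polynomial.eval_add, Polynomial.eval_mul, Polynomial.eval_C, Polynomial.eval_pow,
        Polynomial.eval_X]
      linear_combination this
    · rw [Finset.card_erase_of_mem (Finset.mem_univ _), Finset.card_univ, show Fintype.card K = 8 from H.hK]
      have : p.natDegree ≤ 6 := by simp only [p]; compute_degree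
      omega
  have hc0 : c = 0 := by
    have := congrArg (fun r => Polynomial.coeff r 6) hp
    simpa [p, Polynomial.coeff_X, Polynomial.coeff_C] using this
  have hd0 : d = 0 := by
    have := congrArg (fun r => Polynomial.coeff r 2) hp
    simpa [p, Polynomial.coeff_X, Polynomial.coeff_C] using this
  exact ⟨b, e, f, hb, he, hf, by rw [hQ, hc0, hd0]⟩

end Cfsg.Agent.Lib.ThompsonD4
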