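import Cfsg.Agent.Lib.ThompsonD4.TwoBits

/-!
The long root elements of `³D₄(2)` in terms of bits, and the elements of order `21` of the Levi subgroup of the long
root (helper27).
-/

set_option autoImplicit false
set_option maxRecDepth 4000

namespace Cfsg.Agent.Lib.ThompsonD4

open Cfsg.Lie Cfsg.Agent.Lib.Chev Cfsg.Agent.Lib.Twisted Cfsg.Agent.Lib.Twisted.Core
open Cfsg.Agent.Lib.Chev.RankOneData (upper lower wElt sl_ext mul_entry upper_entries lower_entries wElt_entries)
open Cfsg.Agent.Lib.TrialityInv (X X_eq_xGL X_mem_group P P_inj Q)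
open Cfsg.Agent.Lib.D4Deg41 (Hyp fixF mem_fixF fixF_coe)
open Cfsg.Agent.Lib.Schur.TwistD4P (nrm3)
open Cfsg.Agent.Lib.Schur.TwistTwo (xr xr_eq gPair g_pair nilPair onePair)
open scoped Matrix MatrixGroups

variable {K : Type*} [Field K] {φ : K ≃+* K}

theorem X_eq_xr {r : ℕ} (hr : r < 24) (t : K) : X r t = xr r t := by
  rw [X_eq_xGL (show r < chevD4.nroots from hr), xr_eq (show r < chevD4.nroots from hr)]

theorem X_commute [CharP K 2] {r s : ℕ} (h : nilPair r s = true) (hr : r < 24) (hs : s < 24) (a b : K) :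
    Commute (X r a) (X s b) := by
  rw [X_eq_xr hr, X_eq_xr hs]; exact Schur.TwistTwo.comm_nil h a b

theorem X_swap [CharP K 2] {r s R : ℕ} (h : onePair r s R = true) (hr : r < 24) (hs : s < 24) (hR : R < 24)
    (a b : K) : X s b * X r a = X r a * X s b * X R (a * b) := by
  rw [X_eq_xr hr, X_eq_xr hs, X_eq_xr hR]; exact Schur.TwistTwo.comm_one h a b

/-- The six long roots. -/
abbrev longL : List ℕ := [14, 22, 23, 9, 1, 0]

variable (φ) in
/-- A long root element. -/
noncomputable def lng (r : ℕ) (t : fixF φ) : ↥(twistedD4 K 2) :=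
  by classical exact if h : (X r (t : K) : GL chevD4.Idx K) ∈ twistedD4 K 2 then ⟨_, h⟩ else 1

variable [Fintype K] (H : Hyp K 2 φ)
include H

theorem coe_lng {r : ℕ} (hr : r ∈ longL) (t : fixF φ) : (lng φ r t : GL chevD4.Idx K) = X r (t : K) := by
  classical
  haveI := charP_two H
  have hd : ∀ r ∈ longL, r < 24 ∧ d4Graph.root r = r ∧ (d4Graph.sign r = 1 ∨ d4Graph.sign r = -1) := by
    decide +kernel
  obtain ⟨h1, h2, h3⟩ := hd r hr
  have hm : (X r (t : K) : GL chevD4.Idx K) ∈ twistedD4 K 2 := by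
    refine (mem_iff H).2 ⟨X_mem_group _ _, ?_⟩
    rw [sig_X h1, h2, fixF_coe]
    rcases h3 with h | h <;> simp [h, CharTwo.neg_eq]
  rw [lng, dif_pos hm]

/-- The value one of the root values on a long root. -/
theorem tor_long {r : ℕ} (hr : r ∈ longL) (a : Kˣ) (t : fixF φ) :
    Commute (tor H (a, 1)) (lng φ r t) := by
  refine Subtype.ext ?_
  rw [Subgroup.coe_mul, Subgroup.coe_mul, coe_lng H hr, coe_tor, ← mul_inv_eq_iff_eq_mul]
  have hr24 : r < 24 := by revert hr; revert r; decide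
  rw [torus_X hr24]
  have hv : (torusFun chevD4 (par φ ((a, 1) : Kˣ × (fixF φ)ˣ)) r : K) = 1 := by
    obtain ⟨l23, l22, l14, l9, l1⟩ := Schur.TwistD4P.wt_long φ a (Units.map (fixF φ).subtype.toMonoidHom 1)
    simp only [map_one, Units.val_one, nrm_one H, div_one, one_pow] at l23 l22 l14 l9 l1
    have h0 : (torusFun chevD4 (Schur.TwistD4P.cQ φ a 1) 0 : K) = 1 := by
      rw [show (0 : ℕ) = ng chevD4 23 by decide +kernel, torusFun_ng _ (by norm_num), Units.val_inv_eq_inv_val,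
        l23, inv_one]
    simp only [par, map_one]
    simp only [List.mem_cons, List.not_mem_nil, or_false] at hr
    rcases hr with rfl | rfl | rfl | rfl | rfl | rfl <;> assumption
  rw [hv, one_mul]

/-- The element of order three of the long rank one subgroup. -/
noncomputable def three : SL(2, fixF φ) := lower 1 * upper 1

omit [Fintype K] H in
theorem three_facts [CharP K 2] : (three : SL(2, fixF φ)) ^ 3 = 1 ∧ (three : SL(2, fixF φ))⁻¹ = upper 1 * lower 1 ∧
    wElt * (three : SL(2, fixF φ)) * wElt⁻¹ = three⁻¹ := by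
  haveI : CharP (fixF φ) 2 := (fixF φ).subtype.charP Subtype.val_injective 2
  have h2 : (2 : fixF φ) = 0 := CharTwo.two_eq_zero
  have hi : (three : SL(2, fixF φ))⁻¹ = upper 1 * lower 1 := by
    refine inv_eq_of_mul_eq_one_right (sl_ext ?_ ?_ ?_ ?_) <;>
      simp [three, mul_entry, upper_entries, lower_entries, CharTwo.add_self_eq_zero]
  refine ⟨?_, hi, ?_⟩
  · refine sl_ext ?_ ?_ ?_ ?_ <;>
      simp only [three, pow_succ, pow_zero, one_mul, mul_entry, upper_entries, lower_entries] <;>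
      simp [CharTwo.add_self_eq_zero]
  · rw [hi, three, mul_inv_eq_iff_eq_mul]
    refine sl_ext ?_ ?_ ?_ ?_ <;>
      simp [mul_entry, upper_entries, lower_entries, wElt_entries, CharTwo.add_self_eq_zero, CharTwo.neg_eq]

theorem phiB_three_inv :
    (phiB H (three : SL(2, fixF φ))⁻¹ : GL chevD4.Idx K) = Schur.TwistTwo.gE := by
  haveI := charP_two H
  rw [coe_phiB, three_facts.2.1, map_mul, psiB_upper, psiB_lower, X_eq_xr (by norm_num), X_eq_xr (by norm_num)]
  simp

theorem gE_pair {r s : ℕ} (h : gPair r s = true) (hr : r < 24) (hs : s < 24) (t : K) :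
    Schur.TwistTwo.gE * X r t * Schur.TwistTwo.gE⁻¹ = X r t * X s t ∧
      Schur.TwistTwo.gE * X s t * Schur.TwistTwo.gE⁻¹ = X r t := by
  haveI := charP_two H
  rw [X_eq_xr hr, X_eq_xr hs]
  exact g_pair h t

/-- An element of order `21`. -/
noncomputable def yv (P : SL(2, fixF φ)) (d : Kˣ) : ↥(twistedD4 K 2) := phiB H P * tor H (d, 1)

theorem tor_phiB (a : Kˣ) (P : SL(2, fixF φ)) : Commute (tor H (a, 1)) (phiB H P) := by
  have h := tor_conj_phiB H (a, 1) P
  rw [chiB_one H] at h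
  have e : sc (1 : (fixF φ)ˣ) P = P := by
    refine sl_ext ?_ ?_ ?_ ?_ <;> simp [sc_entries]
  rw [e] at h
  exact mul_inv_eq_iff_eq_mul.1 h

theorem yv_mul (P P' : SL(2, fixF φ)) (d d' : Kˣ) : yv H P d * yv H P' d' = yv H (P * P') (d * d') := by
  rw [yv, yv, yv, map_mul, show ((d * d', 1) : Kˣ × (fixF φ)ˣ) = (d, 1) * (d', 1) by simp, map_mul]
  calc phiB H P * tor H (d, 1) * (phiB H P' * tor H (d', 1))
      = phiB H P * (tor H (d, 1) * phiB H P') * tor H (d', 1) := by group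
    _ = _ := by rw [(tor_phiB H d P').eq]; group

theorem yv_sub (P : SL(2, fixF φ)) (d : Kˣ) {L : List ℕ}
    (hL : (Schur.TwistTwo.chkLt L && Schur.TwistTwo.chkPair orbB L L && Schur.TwistTwo.chkPair (opp orbB) L L) = true)
    {h : ↥(twistedD4 K 2)} (hh : h ∈ sub K 2 L) : yv H P d * h * (yv H P d)⁻¹ ∈ sub K 2 L := by
  have hL1 : Schur.TwistTwo.chkLt L = true := by simp only [Bool.and_eq_true] at hL; exact hL.1.1
  rw [show yv H P d * h * (yv H P d)⁻¹ = phiB H P * (tor H (d, 1) * h * (tor H (d, 1))⁻¹) * (phiB H P)⁻¹ by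
    rw [yv]; group]
  exact phiB_sub H hL _ (tor_sub H hL1 _ hh)

theorem unit_sq_eq_one {a : Kˣ} (h : (a : K) ^ 2 = 1) : a = 1 := by
  haveI := charP_two H
  refine Units.ext ?_
  have h2 : (2 : K) = 0 := CharTwo.two_eq_zero
  have : ((a : K) - 1) ^ 2 = 0 := by linear_combination h + (1 - (a : K)) * h2
  exact sub_eq_zero.1 ((pow_eq_zero_iff two_ne_zero).1 this)

theorem unit_pow_seven (a : Kˣ) : a ^ 7 = 1 := by
  classical
  have h : Fintype.card Kˣ = 7 := by rw [Fintype.card_units, H.hK]; norm_num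
  rw [← h]; exact pow_card_eq_one

theorem cube_ne_one {d : Kˣ} (hd : d ≠ 1) : d ^ 3 ≠ 1 := by
  intro e
  apply hd
  calc d = d ^ 7 / (d ^ 3) ^ 2 := by rw [← pow_mul, eq_div_iff_mul_eq', ← pow_succ']
    _ = 1 := by rw [unit_pow_seven H, e, one_pow, div_one]

theorem yv_fix {P : SL(2, fixF φ)} (hP : P = three ∨ P = three⁻¹) {d : Kˣ} (hd : d ≠ 1) {h : ↥(twistedD4 K 2)}
    (hh : h ∈ sub K 2 radB) (e : yv H P d * h * (yv H P d)⁻¹ = h) : h = 1 := by
  haveI := charP_two H
  have hc : Commute (yv H P d) h := mul_inv_eq_iff_eq_mul.1 e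
  have hP3 : P * P * P = 1 := by
    rcases hP with rfl | rfl
    · rw [← three_facts.1, pow_succ, pow_succ, pow_one]
    · rw [← mul_inv_rev, ← mul_inv_rev, ← mul_assoc, show (three : SL(2, fixF φ)) * three * three = three ^ 3 by
        rw [pow_succ, pow_succ, pow_one], three_facts.1, inv_one]
  have h3 : yv H P d ^ 3 = tor H (d ^ 3, 1) := by
    rw [show yv H P d ^ 3 = yv H P d * yv H P d * yv H P d by simp only [pow_succ, pow_zero, one_mul], yv_mul, yv_mul,
      hP3, yv, map_one, one_mul, pow_succ, pow_succ, pow_one]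
  have e3 : tor H (d ^ 3, 1) * h * (tor H (d ^ 3, 1))⁻¹ = h := by
    rw [← h3, (hc.pow_left 3).eq, mul_inv_cancel_right]
  have hd3 := cube_ne_one H hd
  have hmem := fixed_by_torus (L := radB) (N := [22, 23]) (by decide) (by decide +kernel)
    (c := par φ ((d ^ 3, 1) : Kˣ × (fixF φ)ˣ))
    (fun r hr hv => by
      have hr' : r ∈ posL := by simp only [List.mem_cons, List.not_mem_nil, or_false] at hr ⊢; omega
      rcases par_values H _ r hr' hv with ⟨-, e1⟩ | ⟨rfl, -⟩ | ⟨-, e1⟩ | ⟨-, e1⟩ | ⟨rfl, -⟩ | ⟨rfl, -⟩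
      · rw [coe_chiA] at e1
        exact absurd (unit_sq_eq_one H (by simpa using e1)) hd3
      · simp at hr
      · rw [nrm_one H] at e1
        exact absurd (unit_sq_eq_one H (by simpa using e1)) hd3
      · rw [nrm_one H] at e1
        exact absurd (unit_sq_eq_one H e1.symm) hd3
      · simp
      · simp)
    (show (h : GL chevD4.Idx K) ∈ rg K radB from hh) (congrArg Subtype.val e3)
  obtain ⟨x, y, hxy⟩ : ∃ x y : K, (h : GL chevD4.Idx K) = X 22 x * X 23 y := by
    have hnil : ∀ a b : K, X 23 a * X 22 b = X 22 b * X 23 a := fun a b =>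
      (X_commute (by decide +kernel) (by norm_num) (by norm_num) b a).eq.symm
    generalize (h : GL chevD4.Idx K) = g at hmem
    induction hmem using Subgroup.closure_induction with
    | mem z hz =>
      obtain ⟨r, t, hr, et⟩ := hz
      have hr' : r = 22 ∨ r = 23 := by simpa using hr
      rcases hr' with rfl | rfl
      · exact ⟨t, 0, by rw [TrialityInv.X_zero, mul_one]; exact Units.ext (by rw [et, X_eq_xGL (by decide), coe_xGL])⟩
      · exact ⟨0, t, by rw [TrialityInv.X_zero, one_mul]; exact Units.ext (by rw [et, X_eq_xGL (by decide), coe_xGL])⟩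
    | one => exact ⟨0, 0, by simp [TrialityInv.X_zero]⟩
    | mul a b _ _ ha hb =>
      obtain ⟨x, y, rfl⟩ := ha; obtain ⟨x', y', rfl⟩ := hb
      exact ⟨x + x', y + y', by
        rw [← TrialityInv.X_merge, ← TrialityInv.X_merge]
        calc _ = X 22 x * (X 23 y * X 22 x') * X 23 y' := by group
          _ = _ := by rw [hnil]; group⟩
    | inv a _ ha =>
      obtain ⟨x, y, rfl⟩ := ha
      refine ⟨-x, -y, inv_eq_of_mul_eq_one_right ?_⟩
      calc X 22 x * X 23 y * (X 22 (-x) * X 23 (-y)) = X 22 x * (X 23 y * X 22 (-x)) * X 23 (-y) := by group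
        _ = (X 22 x * X 22 (-x)) * (X 23 y * X 23 (-y)) := by rw [hnil]; group
        _ = 1 := by simp [TrialityInv.X_merge, TrialityInv.X_zero, add_neg_cancel]
  have hv : ∀ r ∈ ([22, 23] : List ℕ), (torusFun chevD4 (par φ ((d, 1) : Kˣ × (fixF φ)ˣ)) r : K) = 1 := by
    obtain ⟨l23, l22, -, -, -⟩ := Schur.TwistD4P.wt_long φ d (Units.map (fixF φ).subtype.toMonoidHom 1)
    simp only [map_one, Units.val_one, nrm_one H, div_one] at l23 l22
    intro r hr
    simp only [List.mem_cons, List.not_mem_nil, or_false] at hr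
    simp only [par, map_one]
    rcases hr with rfl | rfl <;> assumption
  have ht : Commute (tor H (d, 1)) h := by
    refine Subtype.ext ?_
    rw [Subgroup.coe_mul, Subgroup.coe_mul, hxy, coe_tor, ← mul_inv_eq_iff_eq_mul,
      show ∀ T : GL chevD4.Idx K, T * (X 22 x * X 23 y) * T⁻¹ = (T * X 22 x * T⁻¹) * (T * X 23 y * T⁻¹) from
        fun T => by group,
      torus_X (by norm_num), torus_X (by norm_num), hv 22 (by simp), hv 23 (by simp), one_mul, one_mul]
  have hp : Commute (phiB H P) h := by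
    have : phiB H P = yv H P d * (tor H (d, 1))⁻¹ := by rw [yv, mul_inv_cancel_right]
    rw [this]
    exact hc.mul_left ht.inv_left
  have hp' : Commute (phiB H (three : SL(2, fixF φ))⁻¹) h := by
    rcases hP with rfl | rfl
    · rw [map_inv]; exact hp.inv_left
    · exact hp
  have hg : (Schur.TwistTwo.gE : GL chevD4.Idx K) * (h : GL chevD4.Idx K) *
      (Schur.TwistTwo.gE : GL chevD4.Idx K)⁻¹ = h := by
    rw [← phiB_three_inv H, ← Subgroup.coe_inv, ← Subgroup.coe_mul, ← Subgroup.coe_mul, hp'.eq, mul_inv_cancel_right]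
  rw [hxy, show ∀ T : GL chevD4.Idx K, T * (X 22 x * X 23 y) * T⁻¹ = (T * X 22 x * T⁻¹) * (T * X 23 y * T⁻¹) from
      fun T => by group, (gE_pair H (r := 22) (s := 23) (by decide +kernel) (by norm_num) (by norm_num) x).1,
    (gE_pair H (r := 22) (s := 23) (by decide +kernel) (by norm_num) (by norm_num) y).2, mul_assoc,
    (X_commute (r := 22) (s := 23) (by decide +kernel) (by norm_num) (by norm_num) y x).eq.symm, ← mul_assoc,
    TrialityInv.X_merge] at hg
  have hP22 : ∀ a b : K, X 22 a * X 23 b = TrialityInv.P 0 0 0 0 0 0 0 0 0 0 a b := fun a b => by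
    simp [TrialityInv.P, TrialityInv.X_zero]
  rw [hP22, hP22] at hg
  obtain ⟨-, -, -, -, -, -, -, -, -, -, hxy1, hxy2⟩ := P_inj hg
  have hy : y = 0 := add_eq_left.1 hxy1
  refine Subtype.ext ?_
  rw [hxy, hxy2, hy, TrialityInv.X_zero, TrialityInv.X_zero, mul_one]
  rfl

theorem yv_weyl {P : SL(2, fixF φ)} (d : Kˣ) :
    w0g H * yv H P d * (w0g H)⁻¹ = yv H (wElt * P * wElt⁻¹) d⁻¹ := by
  calc w0g H * yv H P d * (w0g H)⁻¹ = (w0g H * phiB H P * (w0g H)⁻¹) * (w0g H * tor H (d, 1) * (w0g H)⁻¹) := by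
        rw [yv]; group
    _ = _ := by rw [w0g_phiB, w0g_tor, yv]; simp

theorem yv_fix_neg {P : SL(2, fixF φ)} (hP : P = three ∨ P = three⁻¹) {d : Kˣ} (hd : d ≠ 1) {h : ↥(twistedD4 K 2)}
    (hh : h ∈ sub K 2 (opp radB)) (e : yv H P d * h * (yv H P d)⁻¹ = h) : h = 1 := by
  haveI := charP_two H
  refine fix_transport H (by decide +kernel) (opp_opp (by decide +kernel)) (fun u hu e' => ?_) hh e
  rw [yv_weyl] at e'
  refine yv_fix H ?_ (by simpa using hd) hu e'
  rcases hP with rfl | rfl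
  · exact Or.inr three_facts.2.2
  · left
    have := congrArg (·⁻¹) (three_facts (φ := φ)).2.2
    simpa [mul_assoc] using this

/-- The base element of order `21`. -/
noncomputable def x21 (c : Kˣ) : ↥(twistedD4 K 2) := yv H three c

theorem yv_cj {P : SL(2, fixF φ)} (hP : P = three ∨ P = three⁻¹) {c d : Kˣ} (hd : d = c ∨ d = c⁻¹) :
    Cj (x21 H c) (yv H P d) := by
  haveI := charP_two H
  have hB : ∀ (Q : SL(2, fixF φ)) (e : Kˣ),
      Cj (yv H Q e) (yv H (wElt * Q * wElt⁻¹) e) := by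
    intro Q e
    refine ⟨phiB H wElt, ?_⟩
    have ht := (tor_phiB H e (wElt : SL(2, fixF φ))⁻¹).eq
    rw [yv, yv, map_mul, map_mul, ← map_inv]
    calc phiB H wElt * phiB H Q * phiB H wElt⁻¹ * tor H (e, 1)
        = phiB H wElt * phiB H Q * (phiB H wElt⁻¹ * tor H (e, 1)) := by group
      _ = _ := by rw [← ht]; group
  have hW : ∀ (Q : SL(2, fixF φ)) (e : Kˣ), Cj (yv H Q e) (yv H (wElt * Q * wElt⁻¹) e⁻¹) :=
    fun Q e => ⟨w0g H, (yv_weyl H e).symm⟩
  have h1 : Cj (x21 H c) (yv H three⁻¹ c) := by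
    have := hB three c; rwa [three_facts.2.2] at this
  have h2 : Cj (x21 H c) (yv H three⁻¹ c⁻¹) := by
    have := hW three c; rwa [three_facts.2.2] at this
  rcases hP with rfl | rfl <;> rcases hd with rfl | rfl
  · exact Cj.refl _
  · refine h2.trans ?_
    have hb := hB three c⁻¹
    rw [three_facts.2.2] at hb
    exact hb.symm
  · exact h1
  · exact h2

theorem x21_order (c : Kˣ) (p : ℕ) [Fact p.Prime] (hp : p ∣ 2) : ¬ p ∣ orderOf (x21 H c) := by
  haveI := charP_two H
  intro hd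
  have h21 : x21 H c ^ 21 = 1 := by
    rw [x21, yv, Commute.mul_pow (tor_phiB H c three).symm, ← map_pow, ← map_pow,
      show (three : SL(2, fixF φ)) ^ 21 = 1 by rw [show 21 = 3 * 7 by norm_num, pow_mul, three_facts.1, one_pow],
      Prod.pow_mk, one_pow, show c ^ 21 = 1 by rw [show 21 = 7 * 3 by norm_num, pow_mul, unit_pow_seven H, one_pow],
      map_one, one_mul, Prod.mk_one_one, map_one]
  have h2 : p = 2 := (Nat.prime_dvd_prime_iff_eq Fact.out Nat.prime_two).1 hp
  have := hd.trans (orderOf_dvd_of_pow_eq_one h21)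
  subst h2
  omega

/-- Equal bits at the long simple root give a product of two conjugates. -/
theorem good_bits {c : Kˣ} (hc : c ≠ 1) {τ : Kˣ} (hτ : τ = 1 ∨ τ = c ^ 2 ∨ τ = (c ^ 2)⁻¹)
    {v u : ↥(twistedD4 K 2)} (hv : v ∈ sub K 2 (opp posL)) (hu : u ∈ sub K 2 posL)
    (h : cb φ (w0g H * v * (w0g H)⁻¹ : ↥(twistedD4 K 2)) = cb φ (u : GL chevD4.Idx K)) :
    Good (x21 H c) (v * tor H (τ, 1) * u) := by
  haveI := charP_two H
  haveI : CharP (fixF φ) 2 := (fixF φ).subtype.charP Subtype.val_injective 2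
  obtain ⟨r, u', hu', rfl⟩ := (nodeB H).splitU u hu
  obtain ⟨p, v', hv', rfl⟩ := (nodeB H).splitV v hv
  change v' ∈ sub K 2 (opp radB) at hv'
  change u' ∈ sub K 2 radB at hu'
  have hpr : p = r := by
    have hw : w0g H * (v' * phiB H (lower p)) * (w0g H)⁻¹ =
        (w0g H * v' * (w0g H)⁻¹) * phiB H (upper p) := by
      rw [show w0g H * (v' * phiB H (lower p)) * (w0g H)⁻¹ =
        (w0g H * v' * (w0g H)⁻¹) * (w0g H * phiB H (lower p) * (w0g H)⁻¹) by group, w0g_phiB, (wElt_conj p).2,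
        CharTwo.neg_eq]
    have hv2 : w0g H * v' * (w0g H)⁻¹ ∈ sub K 2 radB := by
      have := (w0g_sub H (by decide +kernel) hv').1
      rwa [opp_opp (by decide +kernel)] at this
    have hU : ∀ z : fixF φ, phiB H (upper z) ∈ sub K 2 posL := fun z => (nodeB H).memP z
    change cb φ (w0g H * (v' * phiB H (lower p)) * (w0g H)⁻¹ : ↥(twistedD4 K 2)) =
      cb φ ((phiB H (upper r) * u' : ↥(twistedD4 K 2)) : GL chevD4.Idx K) at h
    rw [hw, cb_mul H (rg_mono (by decide) hv2) (hU p), cb_radB H hv2, cb_phiB H, zero_add,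
      cb_mul H (hU r) (rg_mono (by decide) hu'), cb_radB H hu', cb_phiB H, add_zero] at h
    exact Subtype.ext h
  subst hpr
  obtain ⟨d1, d2, hd1, hd2, hdd⟩ : ∃ d1 d2 : Kˣ, (d1 = c ∨ d1 = c⁻¹) ∧ (d2 = c ∨ d2 = c⁻¹) ∧ τ = d1 * d2 := by
    rcases hτ with rfl | rfl | rfl
    · exact ⟨c, c⁻¹, Or.inl rfl, Or.inr rfl, (mul_inv_cancel c).symm⟩
    · exact ⟨c, c, Or.inl rfl, Or.inl rfl, sq c⟩
    · exact ⟨c⁻¹, c⁻¹, Or.inr rfl, Or.inr rfl, by rw [sq, mul_inv_rev]⟩
  obtain ⟨P1, P2, hP1, hP2, hPP⟩ : ∃ P1 P2 : SL(2, fixF φ), (P1 = three ∨ P1 = three⁻¹) ∧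
      (P2 = three ∨ P2 = three⁻¹) ∧ lower p * upper p = P1 * P2 := by
    rcases fix01 H (fixF_coe p) with h0 | h0
    · refine ⟨three, three⁻¹, Or.inl rfl, Or.inr rfl, ?_⟩
      obtain rfl : p = 0 := Subtype.ext h0
      rw [mul_inv_cancel]
      refine sl_ext ?_ ?_ ?_ ?_ <;> simp [mul_entry, upper_entries, lower_entries]
    · refine ⟨three⁻¹, three⁻¹, Or.inr rfl, Or.inr rfl, ?_⟩
      obtain rfl : p = 1 := Subtype.ext h0
      show three = three⁻¹ * three⁻¹
      rw [← mul_inv_rev, eq_inv_iff_mul_eq_one, ← three_facts.1, pow_succ', sq]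
  have hne : ∀ d, d = c ∨ d = c⁻¹ → d ≠ 1 := by
    rintro d (rfl | rfl)
    exacts [hc, inv_ne_one.2 hc]
  have e : v' * phiB H (lower p) * tor H (τ, 1) * (phiB H (upper p) * u') =
      v' * yv H P1 d1 * (yv H P2 d2 * u') := by
    rw [show v' * yv H P1 d1 * (yv H P2 d2 * u') = v' * (yv H P1 d1 * yv H P2 d2) * u' by group, yv_mul, ← hPP,
      ← hdd, yv, map_mul]
    calc v' * phiB H (lower p) * tor H (τ, 1) * (phiB H (upper p) * u')
        = v' * phiB H (lower p) * (tor H (τ, 1) * phiB H (upper p)) * u' := by group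
      _ = _ := by rw [(tor_phiB H τ (upper p)).eq]; group
  show Good (x21 H c) (v' * phiB H (lower p) * tor H (τ, 1) * (phiB H (upper p) * u'))
  rw [e]
  refine Good.mk ((yv_cj H hP1 hd1).trans ?_) ((yv_cj H hP2 hd2).trans ?_)
  · exact (absorb (fun z hz => yv_sub H P1 d1 (by decide +kernel) hz)
      (fun z hz ez => yv_fix_neg H hP1 (hne _ hd1) hz ez) hv').1
  · exact (absorb (fun z hz => yv_sub H P2 d2 (by decide +kernel) hz)
      (fun z hz ez => yv_fix H hP2 (hne _ hd2) hz ez) hu').2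

end Cfsg.Agent.Lib.ThompsonD4
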