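import Cfsg.Agent.Lib.ThompsonD4.TwoLong

/-!
Pairs of points of the projective line over the field with eight elements attached to conjugates with a prescribed
diagonal entry (helper27).
-/

set_option autoImplicit false
set_option maxRecDepth 4000

namespace Cfsg.Agent.Lib.ThompsonD4

open Cfsg.Lie Cfsg.Agent.Lib.Chev Cfsg.Agent.Lib.Twisted Cfsg.Agent.Lib.Twisted.Core
open Cfsg.Agent.Lib.Chev.RankOneData (upper lower wElt sl_ext mul_entry upper_entries lower_entries wElt_entries)
open Cfsg.Agent.Lib.TrialityInv (X X_mem_group)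
open Cfsg.Agent.Lib.D4Deg41 (Hyp fixF mem_fixF fixF_coe)
open Cfsg.Agent.Lib.Schur.TwistD4P (nrm3)
open scoped Matrix MatrixGroups

variable {K : Type*} [Field K]

theorem sl_inv_entries (k : SL(2, K)) :
    k⁻¹ 0 0 = k 1 1 ∧ k⁻¹ 0 1 = -k 0 1 ∧ k⁻¹ 1 0 = -k 1 0 ∧ k⁻¹ 1 1 = k 0 0 := by
  refine ⟨?_, ?_, ?_, ?_⟩ <;> simp [Matrix.SpecialLinearGroup.coe_inv, Matrix.adjugate_fin_two]

theorem conj00 (k m : SL(2, K)) : (k * m * k⁻¹) 0 0 =
    (k 0 0 * m 0 0 + k 0 1 * m 1 0) * k 1 1 - (k 0 0 * m 0 1 + k 0 1 * m 1 1) * k 1 0 := by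
  obtain ⟨h1, h2, h3, h4⟩ := sl_inv_entries k
  simp only [mul_entry, h1, h3]
  ring

theorem pt_left {h : SL(2, K)} (h10 : h 1 0 = 0) (g : SL(2, K)) : pt (h * g) = pt g := by
  have hd := RankOneData.det_eq h
  have h11 : h 1 1 ≠ 0 := fun e => by rw [h10, e] at hd; simp at hd
  have e : ∀ j, (h * g) 1 j = h 1 1 * g 1 j := fun j => by simp [mul_entry, h10]
  by_cases hg : g 1 0 = 0
  · rw [pt_zero hg, pt_zero (by rw [e, hg, mul_zero])]
  · rw [pt_some hg, pt_some (by rw [e]; exact mul_ne_zero h11 hg), e, e, mul_div_mul_left _ _ h11]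

theorem pt_rep (x : Option K) : pt (rep x) = x := by
  cases x with
  | none => exact pt_zero (by simp [rep])
  | some l =>
    rw [pt_some (by simp [rep, mul_entry, upper_entries, wElt_entries])]
    simp [rep, mul_entry, upper_entries, wElt_entries]

theorem pt_cross {g g' : SL(2, K)} (h : pt g = pt g') : g 1 0 * g' 1 1 = g 1 1 * g' 1 0 := by
  by_cases hg : g 1 0 = 0 <;> by_cases hg' : g' 1 0 = 0
  · simp [hg, hg']
  · rw [pt_zero hg, pt_some hg'] at h; cases h
  · rw [pt_some hg, pt_zero hg'] at h; cases h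
  · rw [pt_some hg, pt_some hg', Option.some.injEq, div_eq_div_iff hg hg'] at h
    linear_combination -h

/-- Two points and an element mapping the first axis points to them. -/
theorem exists_pair {l n : K} (h : l ≠ n) : ∃ k : SL(2, K), pt k = some l ∧ pt (wElt * k) = some n ∧
    (∀ t : Kˣ, (k * dia t * k⁻¹) 0 0 = (l * (t : K) - n * (t : K)⁻¹) / (l - n)) ∧
    ∀ s : K, (k * upper s * k⁻¹) 0 0 = 1 - s / (l - n) := by
  have hln := sub_ne_zero.2 h
  obtain ⟨k, k00, k01, k10, k11⟩ : ∃ k : SL(2, K),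
      k 0 0 = (l - n)⁻¹ ∧ k 0 1 = (l - n)⁻¹ * n ∧ k 1 0 = 1 ∧ k 1 1 = l :=
    ⟨⟨!![(l - n)⁻¹, (l - n)⁻¹ * n; 1, l], by rw [Matrix.det_fin_two]; simp; field_simp⟩, rfl, rfl, rfl, rfl⟩
  have hw0 : ((wElt : SL(2, K)) * k) 1 0 ≠ 0 := by simp [mul_entry, wElt_entries, k00, hln]
  refine ⟨k, ?_, ?_, fun t => ?_, fun s => ?_⟩
  · rw [pt_some (by simp [k10]), k10, k11, div_one]
  · rw [pt_some hw0, mul_entry, mul_entry]
    simp [wElt_entries, k00, k01]
    field_simp
  · rw [conj00, k00, k01, k10, k11]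
    simp [dia_entries, Units.val_inv_eq_inv_val]
    field_simp
  · rw [conj00, k00, k01, k10, k11]
    simp [upper_entries]
    field_simp
    ring

theorem upper_pt (n : K) : pt (upper n) = none ∧ pt (wElt * upper n) = some n := by
  refine ⟨pt_zero (by simp [upper_entries]), ?_⟩
  exact pt_rep (some n)

theorem weyl_upper_pt (l : K) :
    pt (wElt * upper l) = some l ∧ pt (wElt * (wElt * upper l)) = none := by
  refine ⟨pt_rep (some l), pt_zero ?_⟩
  simp [mul_entry, upper_entries, wElt_entries]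

/-- Bad values: every admissible pair has values summing to one. -/
abbrev BadPairs (c : Kˣ) (m : SL(2, K)) (R P : Option K → K) : Prop :=
  ∀ (k : SL(2, K)) (τ : Kˣ), (τ = 1 ∨ τ = c ^ 2 ∨ τ = (c ^ 2)⁻¹) → (k * m * k⁻¹) 0 0 = (τ : K) →
    R (pt k) + P (pt (wElt * k)) = 1

variable [Fintype K] [CharP K 2]

theorem card_cast (h8 : Fintype.card K = 8) : (Fintype.card K : K) = 0 := by
  rw [h8]
  have h2 : (2 : K) = 0 := CharTwo.two_eq_zero
  push_cast
  linear_combination 4 * h2

theorem elliptic_false (h8 : Fintype.card K = 8) {R P : Option K → K} {m : SL(2, K)}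
    (hsR : ∑ x, R x = 0) (hsP : ∑ x, P x = 0)
    (hpair : ∀ k : SL(2, K), (k * m * k⁻¹) 0 0 = 1 → R (pt k) + P (pt (wElt * k)) = 1)
    (hell : ∀ k : SL(2, K), (k * m * k⁻¹) 1 0 ≠ 0) : False := by
  classical
  let M : Option K → SL(2, K) := fun x => rep x * m * (rep x)⁻¹
  let kx : Option K → SL(2, K) := fun x => upper ((1 - M x 0 0) / M x 1 0) * rep x
  have hk : ∀ x, (kx x * m * (kx x)⁻¹) 0 0 = 1 := fun x => by
    have h0 : M x 1 0 ≠ 0 := hell (rep x)
    have e : kx x * m * (kx x)⁻¹ = upper ((1 - M x 0 0) / M x 1 0) * M x * (upper ((1 - M x 0 0) / M x 1 0))⁻¹ := by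
      simp only [kx, M]; group
    rw [e, conj00]
    simp [upper_entries]
    field_simp
    ring
  have hpt : ∀ x, pt (kx x) = x := fun x => by
    rw [show kx x = upper ((1 - M x 0 0) / M x 1 0) * rep x from rfl, pt_left (by simp [upper_entries]), pt_rep]
  have hinj : Function.Injective fun x => pt (wElt * kx x) := by
    intro x x' e
    have hc := pt_cross e
    simp [mul_entry, wElt_entries] at hc
    set h := kx x' * (kx x)⁻¹ with hh
    have h01 : h 0 1 = 0 := by
      obtain ⟨i1, i2, i3, i4⟩ := sl_inv_entries (kx x)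
      rw [hh, mul_entry, i2, i4]
      linear_combination hc
    have hd := RankOneData.det_eq h
    rw [h01] at hd
    have hN : (h * (kx x * m * (kx x)⁻¹) * h⁻¹) 0 0 = 1 := by
      rw [show h * (kx x * m * (kx x)⁻¹) * h⁻¹ = kx x' * m * (kx x')⁻¹ by rw [hh]; group]
      exact hk x'
    rw [conj00 h, hk x, h01] at hN
    have h01' : (kx x * m * (kx x)⁻¹) 0 1 ≠ 0 := fun e0 => by
      refine hell (wElt * kx x) ?_
      rw [show wElt * kx x * m * (wElt * kx x)⁻¹ = wElt * (kx x * m * (kx x)⁻¹) * wElt⁻¹ by group]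
      generalize kx x * m * (kx x)⁻¹ = N at e0 ⊢
      rw [mul_entry, mul_entry, mul_entry, (sl_inv_entries wElt).1, (sl_inv_entries wElt).2.2.1]
      simp [wElt_entries, e0]
    have h00 : h 0 0 ≠ 0 := fun e0 => by rw [e0] at hd; simp at hd
    have h10 : h 1 0 = 0 := by
      have : h 0 0 * (kx x * m * (kx x)⁻¹) 0 1 * h 1 0 = 0 := by linear_combination hd - hN
      exact (mul_eq_zero.1 this).resolve_left (mul_ne_zero h00 h01')
    rw [← hpt x, ← hpt x', show kx x' = h * kx x by rw [hh]; group, pt_left h10]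
  have hbij := Finite.injective_iff_bijective.1 hinj
  have hsum : ∑ x, (R x + P (pt (wElt * kx x))) = 0 := by
    rw [Finset.sum_add_distrib, hsR, Function.Bijective.sum_comp hbij P, hsP, add_zero]
  have hone : ∀ x, R x + P (pt (wElt * kx x)) = 1 := fun x => by
    have := hpair (kx x) (hk x)
    rwa [hpt x] at this
  simp only [hone, Finset.sum_const, Finset.card_univ, Fintype.card_option, nsmul_eq_mul, mul_one] at hsum
  push_cast at hsum
  rw [card_cast h8, zero_add] at hsum
  exact one_ne_zero hsum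

/-- Pairs through the two points at infinity force all other values to be one. -/
theorem const_one (h8 : Fintype.card K = 8) {R P : Option K → K} (hsR : ∑ x, R x = 0) (hsP : ∑ x, P x = 0)
    (h1 : ∀ n, R none + P (some n) = 1) (h2 : ∀ l, R (some l) + P none = 1) (x : K) :
    R (some x) = 1 ∧ P (some x) = 1 := by
  have key : ∀ {F G : Option K → K}, ∑ x, G x = 0 → (∀ n, F none + G (some n) = 1) → G none = 0 := by
    intro F G hs h
    rw [Fintype.sum_option, Finset.sum_congr rfl (fun n _ => eq_sub_of_add_eq' (h n)), Finset.sum_const,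
      Finset.card_univ, nsmul_eq_mul, card_cast h8, zero_mul, add_zero] at hs
    exact hs
  have hP := key hsP h1
  have hR := key hsR (F := P) (fun l => by rw [add_comm]; exact h2 l)
  have e1 := h1 x
  have e2 := h2 x
  rw [hR, zero_add] at e1
  rw [hP, add_zero] at e2
  exact ⟨e2, e1⟩

variable {φ : K ≃+* K} (H : Hyp K 2 φ)
include H

omit [CharP K 2] in
theorem sq_ne_one {c : Kˣ} (hc : c ≠ 1) : (c : K) ^ 2 ≠ 1 := fun e => hc (unit_sq_eq_one H e)

theorem upper_false {c : Kˣ} (hc : c ≠ 1) {s : K} {R P : Option K → K} (hsR : ∑ x, R x = 0) (hsP : ∑ x, P x = 0)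
    (hbad : BadPairs c (upper s) R P) : False := by
  have h1 : ∀ n, R none + P (some n) = 1 := fun n => by
    have := hbad (upper n) 1 (Or.inl rfl) (by rw [conj00]; simp [upper_entries])
    rwa [(upper_pt n).1, (upper_pt n).2] at this
  have h2 : ∀ l, R (some l) + P none = 1 := fun l => by
    have := hbad (wElt * upper l) 1 (Or.inl rfl) (by rw [conj00]; simp [mul_entry, upper_entries, wElt_entries])
    rwa [(weyl_upper_pt l).1, (weyl_upper_pt l).2] at this
  have hR := fun x => (const_one H.hK hsR hsP h1 h2 x).1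
  have hP := fun x => (const_one H.hK hsR hsP h1 h2 x).2
  obtain ⟨d, hd, τ, hτ, e⟩ : ∃ d : K, d ≠ 0 ∧ ∃ τ : Kˣ, (τ = 1 ∨ τ = c ^ 2 ∨ τ = (c ^ 2)⁻¹) ∧
      1 - s / d = (τ : K) := by
    by_cases hs : s = 0
    · exact ⟨1, one_ne_zero, 1, Or.inl rfl, by simp [hs]⟩
    · have hne : 1 - (c : K) ^ 2 ≠ 0 := sub_ne_zero.2 (Ne.symm (sq_ne_one H hc))
      exact ⟨s / (1 - (c : K) ^ 2), div_ne_zero hs hne, c ^ 2, Or.inr (Or.inl rfl), by
        rw [div_div_cancel₀ hs, Units.val_pow_eq_pow_val]; ring⟩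
  obtain ⟨k, hk1, hk2, -, hk⟩ := exists_pair (l := d) (n := 0) hd
  have := hbad k τ hτ (by rw [hk, sub_zero, e])
  rw [hk1, hk2, hR, hP] at this
  exact one_ne_zero ((CharTwo.add_self_eq_zero (1 : K)).symm.trans this).symm

/-- For a diagonal middle, bad values are constant off the two fixed points. -/
theorem dia_const {c t : Kˣ} (hc : c ≠ 1) (ht : t ≠ 1) {R P : Option K → K} (hsR : ∑ x, R x = 0)
    (hsP : ∑ x, P x = 0) (hbad : BadPairs c (dia t) R P) :
    (∀ l, l ≠ 0 → R (some l) = R (some 1)) ∧ ∀ l, l ≠ 0 → P (some l) = P (some 1) := by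
  classical
  have h2K : (2 : K) = 0 := CharTwo.two_eq_zero
  have htK : (t : K) ≠ 1 := by simpa [Units.val_eq_one] using ht
  have hl : ∀ {l : K}, l ≠ 0 → R (some l) + P (some ((t : K) * l)) = 1 := by
    intro l hl0
    have hne : l ≠ (t : K) * l := fun e => htK ((mul_eq_right₀ hl0).1 e.symm)
    obtain ⟨k, hk1, hk2, hk, -⟩ := exists_pair hne
    have := hbad k 1 (Or.inl rfl) (by
      rw [hk, Units.val_one, div_eq_one_iff_eq (sub_ne_zero.2 hne)]
      field_simp
      linear_combination ((t : K) - 1) * h2K)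
    rwa [hk1, hk2] at this
  have hmem : t = c ^ 2 ∨ t = (c ^ 2)⁻¹ → False := by
    intro hS
    have hS' : t⁻¹ = c ^ 2 ∨ t⁻¹ = (c ^ 2)⁻¹ := by
      rcases hS with e | e
      · exact Or.inr (by rw [e])
      · exact Or.inl (by rw [e, inv_inv])
    have h1 : ∀ n, R none + P (some n) = 1 := fun n => by
      have := hbad (upper n) t (Or.inr hS) (by rw [conj00]; simp [upper_entries, dia_entries])
      rwa [(upper_pt n).1, (upper_pt n).2] at this
    have h2 : ∀ l, R (some l) + P none = 1 := fun l => by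
      have := hbad (wElt * upper l) t⁻¹ (Or.inr hS') (by
        rw [conj00]; simp [mul_entry, upper_entries, wElt_entries, dia_entries])
      rwa [(weyl_upper_pt l).1, (weyl_upper_pt l).2] at this
    have := hl one_ne_zero
    rw [(const_one H.hK hsR hsP h1 h2 1).1, (const_one H.hK hsR hsP h1 h2 _).2] at this
    exact one_ne_zero ((CharTwo.add_self_eq_zero (1 : K)).symm.trans this).symm
  set τ : K := (c : K) ^ 2 with hτ
  have hnum : τ - (t : K) ≠ 0 := fun e => hmem (Or.inl (Units.ext (by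
    rw [Units.val_pow_eq_pow_val]; exact (sub_eq_zero.1 e).symm)))
  have hden : τ - (t : K)⁻¹ ≠ 0 := fun e => hmem (Or.inr (by
    refine inv_injective (Units.ext ?_)
    rw [inv_inv, Units.val_inv_eq_inv_val, Units.val_pow_eq_pow_val]
    exact (sub_eq_zero.1 e).symm))
  set μ := (τ - (t : K)) / (τ - (t : K)⁻¹) with hμ
  have hμ1 : μ ≠ 1 := fun e => by
    rw [hμ, div_eq_one_iff_eq hden, sub_right_inj] at e
    have : (t : K) ^ 2 = 1 := by rw [sq]; nth_rw 1 [e]; exact inv_mul_cancel₀ t.ne_zero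
    exact ht (unit_sq_eq_one H this)
  have hl2 : ∀ {l : K}, l ≠ 0 → R (some l) + P (some (μ * l)) = 1 := by
    intro l hl0
    have hne : l ≠ μ * l := fun e => hμ1 ((mul_eq_right₀ hl0).1 e.symm)
    obtain ⟨k, hk1, hk2, hk, -⟩ := exists_pair hne
    have := hbad k (c ^ 2) (Or.inr (Or.inl rfl)) (by
      rw [hk, Units.val_pow_eq_pow_val, ← hτ, div_eq_iff (sub_ne_zero.2 hne)]
      have hm : μ * (τ - (t : K)⁻¹) = τ - (t : K) := div_mul_cancel₀ _ hden
      linear_combination l * hm)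
    rwa [hk1, hk2] at this
  set ν : Kˣ := Units.mk0 μ (div_ne_zero hnum hden) * t⁻¹ with hν
  have hν1 : ν ≠ 1 := fun e => by
    rw [hν, mul_inv_eq_one] at e
    have e' : μ = (t : K) := congrArg Units.val e
    rw [hμ, div_eq_iff hden, mul_sub, mul_inv_cancel₀ t.ne_zero] at e'
    refine sq_ne_one H hc ?_
    have h3 : (τ - 1) * (1 - (t : K)) = 0 := by linear_combination e' - (1 - (t : K)) * h2K
    rcases mul_eq_zero.1 h3 with h | h
    · exact sub_eq_zero.1 h
    · exact absurd (sub_eq_zero.1 h).symm htK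
  have hstep : ∀ y : Kˣ, P (some ((ν : K) * (y : K))) = P (some (y : K)) := fun y => by
    have hne : (y : K) / (t : K) ≠ 0 := div_ne_zero y.ne_zero t.ne_zero
    have e1 := hl hne
    have e2 := hl2 hne
    rw [mul_div_cancel₀ _ t.ne_zero] at e1
    rw [show μ * ((y : K) / (t : K)) = (ν : K) * (y : K) by
      rw [hν, Units.val_mul, Units.val_mk0, Units.val_inv_eq_inv_val, div_eq_mul_inv]; ring] at e2
    exact add_left_cancel (e2.trans e1.symm)
  have h7 : Nat.card Kˣ = 7 := by
    rw [Nat.card_units, Nat.card_eq_fintype_card, H.hK]; norm_num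
  haveI : Fact (Nat.Prime 7) := ⟨by norm_num⟩
  have hpow : ∀ i : ℕ, P (some ((ν ^ i : Kˣ) : K)) = P (some 1) := by
    intro i
    induction i with
    | zero => simp
    | succ i ih => rw [pow_succ', Units.val_mul, hstep, ih]
  have hPc : ∀ l, l ≠ 0 → P (some l) = P (some 1) := fun l hl0 => by
    obtain ⟨i, hi⟩ : Units.mk0 l hl0 ∈ Submonoid.powers ν :=
      mem_powers_iff_mem_zpowers.2 (mem_zpowers_of_prime_card h7 hν1)
    have := hpow i
    rwa [show ν ^ i = Units.mk0 l hl0 from hi, Units.val_mk0] at this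
  refine ⟨fun l hl0 => ?_, hPc⟩
  have e1 := hl hl0
  have e2 := hl one_ne_zero
  rw [hPc _ (mul_ne_zero t.ne_zero hl0)] at e1
  rw [hPc _ (mul_ne_zero t.ne_zero one_ne_zero)] at e2
  exact add_right_cancel (e1.trans e2.symm)

omit [CharP K 2] in
theorem phiA_upper_radB (r : K) : phiA H (upper r) ∈ sub K 2 radB := by
  show psiA φ (upper r) ∈ rg K radB
  rw [psiA_upper]
  exact mul_mem (X_mem_rg (by decide) _) (mul_mem (X_mem_rg (by decide) _) (X_mem_rg (by decide) _))

/-- The lower part of a state, moved to the upper side. -/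
noncomputable def vo (v : ↥(twistedD4 K 2)) : ↥(twistedD4 K 2) :=
  (phiA H wElt)⁻¹ * (w0g H * v * (w0g H)⁻¹) * phiA H wElt

omit [CharP K 2] in
theorem vo_mem {v : ↥(twistedD4 K 2)} (hv : v ∈ sub K 2 (opp radA)) : vo H v ∈ sub K 2 radA := by
  have h1 := (w0g_sub H (by decide +kernel) hv).1
  rw [opp_opp (by decide +kernel)] at h1
  have := phiA_sub H (L := radA) (by decide +kernel) (wElt : SL(2, K))⁻¹ h1
  rwa [map_inv, inv_inv] at this

omit [CharP K 2] in
theorem sum_Rf {u : ↥(twistedD4 K 2)} (hu : u ∈ sub K 2 radA) : ∑ x, Rf H u x = 0 := by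
  rw [Fintype.sum_option]; exact Rf_sum H hu

omit [CharP K 2] in
/-- A pair with equal values gives a product of two conjugates. -/
theorem good_pair {c : Kˣ} (hc : c ≠ 1) {v u : ↥(twistedD4 K 2)} (hv : v ∈ sub K 2 (opp radA))
    (hu : u ∈ sub K 2 radA) {m k : SL(2, K)} {τ : Kˣ} (hτ : τ = 1 ∨ τ = c ^ 2 ∨ τ = (c ^ 2)⁻¹)
    (h00 : (k * m * k⁻¹) 0 0 = (τ : K)) (h : Rf H u (pt k) = Rf H (vo H v) (pt (wElt * k))) :
    Good (x21 H c) (v * phiA H m * u) := by
  set M := k * m * k⁻¹ with hM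
  set p := M 1 0 / (τ : K)
  set r := M 0 1 / (τ : K)
  have hMeq : M = lower p * dia τ * upper r := by
    have hd := RankOneData.det_eq M
    rw [h00] at hd
    refine sl_ext ?_ ?_ ?_ ?_ <;>
      simp only [mul_entry, lower_entries, upper_entries, dia_entries, h00, p, r, Units.val_inv_eq_inv_val] <;>
      field_simp <;> first | linear_combination hd | ring
  set V := phiA H k * v * (phiA H k)⁻¹ with hV
  set U := phiA H k * u * (phiA H k)⁻¹ with hU
  have hVm : V ∈ sub K 2 (opp radA) := phiA_sub H (by decide +kernel) k hv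
  have hUm : U ∈ sub K 2 radA := phiA_sub H (by decide +kernel) k hu
  refine Good.of_cj (h := V * phiA H (lower p) * tor H (τ, 1) * (phiA H (upper r) * U)) ⟨phiA H k, ?_⟩ ?_
  · rw [← phiA_dia, hV, hU]
    calc _ = phiA H k * v * (phiA H k)⁻¹ * phiA H (lower p * dia τ * upper r) * (phiA H k * u * (phiA H k)⁻¹) := by
          simp only [map_mul]; group
      _ = _ := by rw [← hMeq, hM]; simp only [map_mul, map_inv]; group
  refine good_bits H hc hτ (mul_mem (rg_mono (by decide +kernel) hVm) ((nodeA H).memM p))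
    (mul_mem ((nodeA H).memP r) (rg_mono (by decide) hUm)) ?_
  have e : w0g H * (V * phiA H (lower p)) * (w0g H)⁻¹ =
      (phiA H (wElt * k) * vo H v * (phiA H (wElt * k))⁻¹) * phiA H (upper (-p)) := by
    rw [show w0g H * (V * phiA H (lower p)) * (w0g H)⁻¹ = (w0g H * phiA H k * (w0g H)⁻¹) *
      (w0g H * v * (w0g H)⁻¹) * (w0g H * phiA H k * (w0g H)⁻¹)⁻¹ * (w0g H * phiA H (lower p) * (w0g H)⁻¹) by
        rw [hV]; group, w0g_phiA, w0g_phiA, (wElt_conj p).2, vo]
    simp only [map_mul, map_inv]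
    group
  have hR := cb_conj H hu k
  have hP := cb_conj H (vo_mem H hv) (wElt * k)
  have hwm : phiA H (wElt * k) * vo H v * (phiA H (wElt * k))⁻¹ ∈ sub K 2 posL :=
    rg_mono (by decide) (phiA_sub H (L := radA) (by decide +kernel) _ (vo_mem H hv))
  have hUp : ∀ z : K, phiA H (upper z) ∈ sub K 2 posL := fun z => rg_mono (by decide) (phiA_upper_radB H z)
  rw [e, cb_mul H hwm (hUp (-p)), cb_mul H (hUp r) (rg_mono (by decide) hUm),
    cb_radB H (phiA_upper_radB H (-p)), cb_radB H (phiA_upper_radB H r), hP, hU, hR, add_zero, zero_add, h]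

end Cfsg.Agent.Lib.ThompsonD4
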