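import Cfsg.Agent.Lib.ThompsonD4.TwoPairs

/-!
The products of long root elements left over by the pairing argument in `³D₄(2)` (helper27).
-/

set_option autoImplicit false
set_option maxRecDepth 4000

namespace Cfsg.Agent.Lib.ThompsonD4

open Cfsg.Lie Cfsg.Agent.Lib.Chev Cfsg.Agent.Lib.Twisted Cfsg.Agent.Lib.Twisted.Core
open Cfsg.Agent.Lib.Chev.RankOneData (upper lower wElt sl_ext mul_entry upper_entries lower_entries wElt_entries)
open Cfsg.Agent.Lib.TrialityInv (X X_merge X_mem_group Q)
open Cfsg.Agent.Lib.D4Deg41 (Hyp fixF mem_fixF fixF_coe)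
open Cfsg.Agent.Lib.Schur.TwistD4P (nrm3)
open Cfsg.Agent.Lib.Schur.TwistTwo (gE)
open scoped Matrix MatrixGroups

variable {K : Type*} [Field K] [Fintype K] {φ : K ≃+* K} (H : Hyp K 2 φ)
include H

/-- A product of long root elements around a diagonal element. -/
noncomputable def st (a : Kˣ) (p p22 z r r22 w : fixF φ) : ↥(twistedD4 K 2) :=
  lng φ 1 p22 * lng φ 0 z * lng φ 9 p * tor H (a, 1) * (lng φ 14 r * (lng φ 22 r22 * lng φ 23 w))

theorem dia_weyl (a : Kˣ) : (wElt : SL(2, K)) * dia a * wElt⁻¹ = dia a⁻¹ := by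
  rw [mul_inv_eq_iff_eq_mul]
  refine sl_ext ?_ ?_ ?_ ?_ <;> simp [mul_entry, wElt_entries, dia_entries]

theorem wA_long {r s : ℕ} (h : (r, s) ∈ [(1, 9), (9, 1), (0, 0), (14, 22), (22, 14), (23, 23)]) (t : K) :
    psiA φ wElt * X r t * (psiA φ wElt)⁻¹ = X s t := by
  have hd : ∀ p ∈ [(1, 9), (9, 1), (0, 0), (14, 22), (22, 14), (23, 23)],
      p.1 < 24 ∧ refl D4.cert 0 (refl D4.cert 2 (refl D4.cert 3 p.1)) = p.2 := by decide +kernel
  rw [wA_X H (hd _ h).1, (hd _ h).2]

/-- An even sum of the four bits gives a product of two conjugates. -/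
theorem good_even {c a : Kˣ} (hc : c ≠ 1) (ha : a ≠ 1) {p p22 z r r22 w : fixF φ}
    (h : p + p22 + r + r22 = 0) : Good (x21 H c) (st H a p p22 z r r22 w) := by
  haveI := charP_two H
  set v := lng φ 1 p22 * lng φ 0 z * lng φ 9 p with hv0
  set u := lng φ 14 r * (lng φ 22 r22 * lng φ 23 w) with hu0
  have hv : v ∈ sub K 2 (opp radA) := by
    show (v : GL chevD4.Idx K) ∈ rg K (opp radA)
    rw [hv0, Subgroup.coe_mul, Subgroup.coe_mul, coe_lng H (by decide), coe_lng H (by decide), coe_lng H (by decide)]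
    exact mul_mem (mul_mem (X_mem_rg (by decide +kernel) _) (X_mem_rg (by decide +kernel) _))
      (X_mem_rg (by decide +kernel) _)
  have huQ : (u : GL chevD4.Idx K) = Q φ (r : K) 0 0 0 (r22 : K) (w : K) := by
    rw [hu0, Subgroup.coe_mul, Subgroup.coe_mul, coe_lng H (by decide), coe_lng H (by decide), coe_lng H (by decide)]
    simp [Q, TrialityInv.P, TrialityInv.X_zero]
  have hu : u ∈ sub K 2 radA := by
    show (u : GL chevD4.Idx K) ∈ rg K radA
    rw [hu0, Subgroup.coe_mul, Subgroup.coe_mul, coe_lng H (by decide), coe_lng H (by decide), coe_lng H (by decide)]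
    exact mul_mem (X_mem_rg (by decide) _) (mul_mem (X_mem_rg (by decide) _) (X_mem_rg (by decide) _))
  have hvQ : (vo H v : GL chevD4.Idx K) = Q φ (p22 : K) 0 0 0 (p : K) (z : K) := by
    have e1 : ng chevD4 1 = 22 ∧ ng chevD4 0 = 23 ∧ ng chevD4 9 = 14 := by decide +kernel
    have eW : W0 K * (X 1 (p22 : K) * X 0 (z : K) * X 9 (p : K)) * (W0 K)⁻¹ =
        X 22 (p22 : K) * X 23 (z : K) * X 14 (p : K) := by
      rw [show W0 K * (X 1 (p22 : K) * X 0 (z : K) * X 9 (p : K)) * (W0 K)⁻¹ =
        (W0 K * X 1 (p22 : K) * (W0 K)⁻¹) * (W0 K * X 0 (z : K) * (W0 K)⁻¹) * (W0 K * X 9 (p : K) * (W0 K)⁻¹) by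
          group, W0_X_neg (by norm_num), W0_X_neg (by norm_num), W0_X_neg (by norm_num), e1.1, e1.2.1, e1.2.2,
        X_neg, X_neg, X_neg]
    simp only [vo, hv0, Subgroup.coe_mul, Subgroup.coe_inv, coe_w0g, coe_phiA, coe_lng H (r := 1) (by decide),
      coe_lng H (r := 0) (by decide), coe_lng H (r := 9) (by decide)]
    rw [eW, ← wA_long H (r := 14) (s := 22) (by decide) (p22 : K), ← wA_long H (r := 23) (s := 23) (by decide) (z : K),
      ← wA_long H (r := 22) (s := 14) (by decide) (p : K)]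
    calc _ = X 14 (p22 : K) * (X 23 (z : K) * X 22 (p : K)) := by group
      _ = _ := by
        rw [(X_commute (r := 22) (s := 23) (by decide +kernel) (by norm_num) (by norm_num) _ _).eq.symm]
        simp [Q, TrialityInv.P, TrialityInv.X_zero]
  obtain ⟨k, hk1, hk2, hk, -⟩ := exists_pair (l := (1 : K)) (n := (a : K))
    (fun e => ha (Units.ext e.symm))
  have hne : (1 : K) - (a : K) ≠ 0 := sub_ne_zero.2 fun e => ha (Units.ext e.symm)
  have h00 : (k * dia a * k⁻¹) 0 0 = ((1 : Kˣ) : K) := by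
    rw [hk, Units.val_one, div_eq_one_iff_eq hne, mul_inv_cancel₀ a.ne_zero, one_mul]
    linear_combination ((a : K) - 1) * (CharTwo.two_eq_zero : (2 : K) = 0)
  have hR : Rf H u (pt k) = Rf H (vo H v) (pt (wElt * k)) := by
    rw [hk1, hk2, Rf_some H hu (fixF_coe r) (fixF_coe r22) huQ,
      Rf_some H (vo_mem H hv) (fixF_coe p22) (fixF_coe p) hvQ, show nrm3 φ (a : K) = 1 from nrm_one H a,
      show nrm3 φ (1 : K) = 1 by simp [nrm3]]
    have h' : (p : K) + p22 + r + r22 = 0 := by simpa using congrArg Subtype.val h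
    simp [pp]
    linear_combination h' - ((p : K) + p22) * (CharTwo.two_eq_zero : (2 : K) = 0)
  have := good_pair H hc hv hu (Or.inl rfl) h00 hR
  rwa [phiA_dia] at this

/-- The element of order three fixing the middle rotates the outer bits. -/
theorem st_rot (a : Kˣ) (p p22 z r22 w : fixF φ) :
    Cj (st H a p p22 z p r22 w) (st H a p z (p22 + z) p (r22 + w) r22) := by
  haveI := charP_two H
  haveI : CharP (fixF φ) 2 := (fixF φ).subtype.charP Subtype.val_injective 2
  set g := phiB H (three : SL(2, fixF φ))⁻¹ with hg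
  have h9 : lng φ 9 p = phiB H (lower p) :=
    Subtype.ext (by rw [coe_lng H (by decide), coe_phiB, psiB_lower])
  have h14 : lng φ 14 p = phiB H (upper p) :=
    Subtype.ext (by rw [coe_lng H (by decide), coe_phiB, psiB_upper])
  have hM : Commute g (lng φ 9 p * tor H (a, 1) * lng φ 14 p) := by
    have h1 : Commute g (tor H (a, 1)) := (tor_phiB H a _).symm
    have h2 : Commute g (phiB H (lower p) * phiB H (upper p)) := by
      rw [← map_mul, hg]
      refine Commute.map ?_ (phiB H)
      rcases fix01 H (fixF_coe p) with h0 | h0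
      · obtain rfl : p = 0 := Subtype.ext h0
        rw [show lower (0 : fixF φ) * upper 0 = 1 by
          refine sl_ext ?_ ?_ ?_ ?_ <;> simp [mul_entry, upper_entries, lower_entries]]
        exact Commute.one_right _
      · obtain rfl : p = 1 := Subtype.ext h0
        exact (Commute.refl _).inv_left
    rw [h9, h14, (tor_phiB H a (lower p)).eq.symm, mul_assoc]
    exact h1.mul_right h2
  refine ⟨g, ?_⟩
  have hL : g * (lng φ 1 p22 * lng φ 0 z) * g⁻¹ = lng φ 1 z * lng φ 0 (p22 + z) := by
    refine Subtype.ext ?_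
    simp only [Subgroup.coe_mul, Subgroup.coe_inv, hg, phiB_three_inv H, coe_lng H (r := 1) (by decide),
      coe_lng H (r := 0) (by decide), AddMemClass.coe_add]
    rw [show gE * (X 1 (p22 : K) * X 0 (z : K)) * gE⁻¹ = (gE * X 1 (p22 : K) * gE⁻¹) * (gE * X 0 (z : K) * gE⁻¹) by
        group, (gE_pair H (r := 0) (s := 1) (by decide +kernel) (by norm_num) (by norm_num) _).2,
      (gE_pair H (r := 0) (s := 1) (by decide +kernel) (by norm_num) (by norm_num) _).1, ← mul_assoc, X_merge]
    exact (X_commute (r := 0) (s := 1) (by decide +kernel) (by norm_num) (by norm_num) _ _).eq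
  have hU : g * (lng φ 22 r22 * lng φ 23 w) * g⁻¹ = lng φ 22 (r22 + w) * lng φ 23 r22 := by
    refine Subtype.ext ?_
    simp only [Subgroup.coe_mul, Subgroup.coe_inv, hg, phiB_three_inv H, coe_lng H (r := 22) (by decide),
      coe_lng H (r := 23) (by decide), AddMemClass.coe_add]
    rw [show gE * (X 22 (r22 : K) * X 23 (w : K)) * gE⁻¹ =
        (gE * X 22 (r22 : K) * gE⁻¹) * (gE * X 23 (w : K) * gE⁻¹) by group,
      (gE_pair H (r := 22) (s := 23) (by decide +kernel) (by norm_num) (by norm_num) _).1,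
      (gE_pair H (r := 22) (s := 23) (by decide +kernel) (by norm_num) (by norm_num) _).2, mul_assoc,
      (X_commute (r := 22) (s := 23) (by decide +kernel) (by norm_num) (by norm_num) (w : K) (r22 : K)).eq.symm,
      ← mul_assoc, X_merge]
  unfold st
  rw [← hL, ← hU]
  calc g * (lng φ 1 p22 * lng φ 0 z) * g⁻¹ * lng φ 9 p * tor H (a, 1) *
        (lng φ 14 p * (g * (lng φ 22 r22 * lng φ 23 w) * g⁻¹))
      = g * (lng φ 1 p22 * lng φ 0 z) * g⁻¹ * ((lng φ 9 p * tor H (a, 1) * lng φ 14 p) * g) *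
          (lng φ 22 r22 * lng φ 23 w) * g⁻¹ := by group
    _ = _ := by rw [← hM.eq]; group

/-- The reflection of the short node exchanges the two pairs of long roots. -/
theorem st_weyl (a : Kˣ) (p p22 z r r22 w : fixF φ) :
    Cj (st H a p p22 z r r22 w) (st H a⁻¹ p22 p (z + p * p22) r22 r (w + r * r22)) := by
  haveI := charP_two H
  refine ⟨phiA H wElt, ?_⟩
  have hT : phiA H wElt * tor H (a, 1) * (phiA H wElt)⁻¹ = tor H (a⁻¹, 1) := by
    rw [← phiA_dia, ← phiA_dia, ← map_inv, ← map_mul, ← map_mul, dia_weyl H]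
  have hL : phiA H wElt * (lng φ 1 p22 * lng φ 0 z * lng φ 9 p) * (phiA H wElt)⁻¹ =
      lng φ 1 p * lng φ 0 (z + p * p22) * lng φ 9 p22 := by
    refine Subtype.ext ?_
    simp only [Subgroup.coe_mul, Subgroup.coe_inv, coe_phiA, coe_lng H (r := 1) (by decide),
      coe_lng H (r := 0) (by decide), coe_lng H (r := 9) (by decide), AddMemClass.coe_add, MulMemClass.coe_mul]
    rw [show ∀ W : GL chevD4.Idx K, W * (X 1 (p22 : K) * X 0 (z : K) * X 9 (p : K)) * W⁻¹ =
      (W * X 1 (p22 : K) * W⁻¹) * (W * X 0 (z : K) * W⁻¹) * (W * X 9 (p : K) * W⁻¹) from fun W => by group,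
      wA_long H (r := 1) (s := 9) (by decide), wA_long H (r := 0) (s := 0) (by decide),
      wA_long H (r := 9) (s := 1) (by decide)]
    have c01 := fun x y : K => (X_commute (K := K) (r := 0) (s := 1) (by decide +kernel) (by norm_num)
      (by norm_num) x y).eq
    have c09 := fun x y : K => (X_commute (K := K) (r := 0) (s := 9) (by decide +kernel) (by norm_num)
      (by norm_num) x y).eq
    calc X 9 (p22 : K) * X 0 (z : K) * X 1 (p : K) = X 9 (p22 : K) * X 1 (p : K) * X 0 (z : K) := by
          rw [mul_assoc, c01, ← mul_assoc]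
      _ = X 1 (p : K) * (X 9 (p22 : K) * X 0 ((z : K) + (p : K) * (p22 : K))) := by
          rw [X_swap (r := 1) (s := 9) (R := 0) (by decide +kernel) (by norm_num) (by norm_num) (by norm_num),
            mul_assoc, mul_assoc, X_merge, add_comm]
      _ = _ := by rw [← c09, ← mul_assoc]
  have hU : phiA H wElt * (lng φ 14 r * (lng φ 22 r22 * lng φ 23 w)) * (phiA H wElt)⁻¹ =
      lng φ 14 r22 * (lng φ 22 r * lng φ 23 (w + r * r22)) := by
    refine Subtype.ext ?_
    simp only [Subgroup.coe_mul, Subgroup.coe_inv, coe_phiA, coe_lng H (r := 14) (by decide),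
      coe_lng H (r := 22) (by decide), coe_lng H (r := 23) (by decide), AddMemClass.coe_add, MulMemClass.coe_mul]
    rw [show ∀ W : GL chevD4.Idx K, W * (X 14 (r : K) * (X 22 (r22 : K) * X 23 (w : K))) * W⁻¹ =
      (W * X 14 (r : K) * W⁻¹) * (W * X 22 (r22 : K) * W⁻¹) * (W * X 23 (w : K) * W⁻¹) from fun W => by group,
      wA_long H (r := 14) (s := 22) (by decide), wA_long H (r := 22) (s := 14) (by decide),
      wA_long H (r := 23) (s := 23) (by decide),
      X_swap (r := 14) (s := 22) (R := 23) (by decide +kernel) (by norm_num) (by norm_num) (by norm_num),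
      mul_assoc, X_merge, mul_assoc, add_comm, mul_comm (r22 : K)]
  unfold st
  rw [← hL, ← hU, ← hT]
  group

/-- Every such product is a product of two conjugates. -/
theorem good_st {c a : Kˣ} (hc : c ≠ 1) (ha : a ≠ 1) (p p22 z r r22 w : fixF φ) :
    Good (x21 H c) (st H a p p22 z r r22 w) := by
  haveI : CharP (fixF φ) 2 := by
    haveI := charP_two H
    exact (fixF φ).subtype.charP Subtype.val_injective 2
  have h2 : (2 : fixF φ) = 0 := CharTwo.two_eq_zero
  have h01 : ∀ x : fixF φ, x = 0 ∨ x = 1 := fun x => by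
    rcases fix01 H (fixF_coe x) with h | h
    exacts [Or.inl (Subtype.ext h), Or.inr (Subtype.ext h)]
  have hodd : ∀ x : fixF φ, x ≠ 0 → x = 1 := fun x hx => (h01 x).resolve_left hx
  have hrot : ∀ (b : Kˣ), b ≠ 1 → ∀ p p22 z r22 w : fixF φ, Good (x21 H c) (st H b p p22 z p r22 w) := by
    intro b hb p p22 z r22 w
    by_cases e0 : p22 + r22 = 0
    · exact good_even H hc hb (by linear_combination e0 + p * h2)
    by_cases e1 : z + (r22 + w) = 0
    · exact Good.of_cj (st_rot H b p p22 z r22 w) (good_even H hc hb (by linear_combination e1 + p * h2))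
    refine Good.of_cj ((st_rot H b p p22 z r22 w).trans (st_rot H b p _ _ _ _))
      (good_even H hc hb ?_)
    have h0 := hodd _ e0
    have h1 := hodd _ e1
    linear_combination h0 + h1 + (p + 1) * h2
  by_cases he : p + p22 + r + r22 = 0
  · exact good_even H hc ha he
  by_cases hpr : p = r
  · subst hpr; exact hrot a ha p p22 z r22 w
  have h1 := hodd _ he
  have h2' : p + r = 1 := hodd _ fun e => hpr (CharTwo.add_eq_zero.1 e)
  have h3 : p22 = r22 := CharTwo.add_eq_zero.1 (by linear_combination h1 - h2')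
  refine Good.of_cj (st_weyl H a p p22 z r r22 w) ?_
  subst h3
  exact hrot a⁻¹ (by simpa using ha) p22 p _ r _

end Cfsg.Agent.Lib.ThompsonD4
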