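import Cfsg.Agent.Lib.ThompsonD4.Nodes

/-!
The longest element of `³D₄(q)` on the two rank one subgroups (helper27).
-/

set_option autoImplicit false
set_option maxRecDepth 4000

namespace Cfsg.Agent.Lib.ThompsonD4

open Cfsg.Lie Cfsg.Agent.Lib.Chev
open Cfsg.Agent.Lib.Chev.RankOneData (upper lower wElt sl_ext mul_entry upper_entries lower_entries wElt_entries)
open Cfsg.Agent.Lib.TrialityInv (X)
open Cfsg.Agent.Lib.D4Deg41 (Hyp fixF)
open scoped Matrix MatrixGroups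

theorem wElt_conj {k : Type*} [Field k] (t : k) :
    (wElt : SL(2, k)) * upper t * wElt⁻¹ = lower (-t) ∧ (wElt : SL(2, k)) * lower t * wElt⁻¹ = upper (-t) := by
  constructor <;> rw [mul_inv_eq_iff_eq_mul] <;>
    (refine sl_ext ?_ ?_ ?_ ?_ <;> simp [mul_entry, upper_entries, lower_entries, wElt_entries])

theorem sgn_w0 : ∀ r < 24, sgn w0W r = -1 := by decide +kernel

variable {K : Type*} [Field K] [Fintype K] {q : ℕ} {φ : K ≃+* K} (H : Hyp K q φ)
include H

omit [Fintype K] H in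
theorem W0_X_neg {r : ℕ} (hr : r < 24) (t : K) : W0 K * X r t * (W0 K)⁻¹ = X (ng chevD4 r) (-t) := by
  rw [W0_X hr, sgn_w0 r hr]
  push_cast
  rw [neg_one_mul]

theorem w0g_phiA (m : SL(2, K)) : w0g H * phiA H m * (w0g H)⁻¹ = phiA H (wElt * m * wElt⁻¹) := by
  refine Subtype.ext ?_
  rw [Subgroup.coe_mul, Subgroup.coe_mul, Subgroup.coe_inv, coe_w0g, coe_phiA, coe_phiA]
  refine sl2_ext ((MulAut.conj (W0 K)).toMonoidHom.comp (psiA φ))
    ((psiA φ).comp (MulAut.conj (wElt : SL(2, K))).toMonoidHom) (fun t => ?_) (fun t => ?_) m <;>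
    simp only [MonoidHom.comp_apply, MulEquiv.coe_toMonoidHom, MulAut.conj_apply, (wElt_conj t).1, (wElt_conj t).2,
      psiA_upper, psiA_lower, map_neg]
  · rw [show W0 K * (X 18 t * (X 13 (φ t) * X 12 (φ (φ t)))) * (W0 K)⁻¹ = W0 K * X 18 t * (W0 K)⁻¹ *
        ((W0 K * X 13 (φ t) * (W0 K)⁻¹) * (W0 K * X 12 (φ (φ t)) * (W0 K)⁻¹)) by group,
      W0_X_neg (by norm_num), W0_X_neg (by norm_num), W0_X_neg (by norm_num)]
    rfl
  · rw [show W0 K * (X 5 t * (X 10 (φ t) * X 11 (φ (φ t)))) * (W0 K)⁻¹ = W0 K * X 5 t * (W0 K)⁻¹ *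
        ((W0 K * X 10 (φ t) * (W0 K)⁻¹) * (W0 K * X 11 (φ (φ t)) * (W0 K)⁻¹)) by group,
      W0_X_neg (by norm_num), W0_X_neg (by norm_num), W0_X_neg (by norm_num)]
    rfl

theorem w0g_phiB (m : SL(2, fixF φ)) : w0g H * phiB H m * (w0g H)⁻¹ = phiB H (wElt * m * wElt⁻¹) := by
  refine Subtype.ext ?_
  rw [Subgroup.coe_mul, Subgroup.coe_mul, Subgroup.coe_inv, coe_w0g, coe_phiB, coe_phiB]
  refine sl2_ext ((MulAut.conj (W0 K)).toMonoidHom.comp (psiB φ))
    ((psiB φ).comp (MulAut.conj (wElt : SL(2, fixF φ))).toMonoidHom) (fun t => ?_) (fun t => ?_) m <;>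
    simp only [MonoidHom.comp_apply, MulEquiv.coe_toMonoidHom, MulAut.conj_apply, (wElt_conj t).1, (wElt_conj t).2,
      psiB_upper, psiB_lower] <;>
    rw [W0_X_neg (by norm_num)] <;> rfl

/-- A Levi element acts on the radical on one side as its image under the longest element on the other. -/
theorem fix_transport {L : List ℕ} (hL : Schur.TwistTwo.chkLt (opp L) = true)
    (hL' : opp (opp L) = L) {y v : ↥(twistedD4 K q)}
    (hfix : ∀ h ∈ sub K q L, (w0g H * y * (w0g H)⁻¹) * h * (w0g H * y * (w0g H)⁻¹)⁻¹ = h → h = 1)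
    (hv : v ∈ sub K q (opp L)) (e : y * v * y⁻¹ = v) : v = 1 := by
  have hv' := (w0g_sub H hL hv).1
  rw [hL'] at hv'
  have h1 := hfix _ hv' (by
    calc _ = w0g H * (y * v * y⁻¹) * (w0g H)⁻¹ := by group
      _ = _ := by rw [e])
  simpa using h1

end Cfsg.Agent.Lib.ThompsonD4
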